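import Cfsg.Agent.Lib.AltTwelve.Alt.Orbit
import Mathlib.GroupTheory.SpecificGroups.Alternating.Simple

/-!
# The branches `A₁₂` and `A₁₃`

Every involution fixes cosets of the invariant set only, so the invariant set is everything.
-/

set_option autoImplicit false
set_option maxRecDepth 100000
set_option linter.unusedSectionVars false
set_option linter.style.haveILetI false

namespace Cfsg.Agent.AltTwelve.Alt

open Cfsg.Agent.SpThreeCent.SixEnd (dihedral_full)

universe u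

variable {G : Type u} [Group G] {f : A12 →* G}

/-- The alternating group of degree thirteen. -/
abbrev A13 : Type := ↥(alternatingGroup (Fin 13))

theorem branch_facts : alA * u2A = u2A * alA ∧ wA * alA = wA * alA ∧ sc alA = 12 ∧
    kA 3 = u2A ∧ vA 0 = u2A ∧ vA 1 = kA 0 ∧ vA 2 = kA 4 ∧ xA * u2A = u2A * xA ∧ xA = u2A * u4A ∧
    alA * alA = 1 ∧ wA * u2A * (wA * u2A) = 1 ∧ alA * u2A * (alA * u2A) = 1 ∧
    (∀ i, vA i * xA * (vA i * xA) = 1) := by
  decide +kernel

theorem mem_closure_comm {a w v g : G} (hw : Commute w a) (hv : Commute v a)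
    (hg : g ∈ Subgroup.closure ({w, v} : Set G)) : Commute g a := by
  induction hg using Subgroup.closure_induction with
  | mem x hx => rcases hx with rfl | rfl; exacts [hw, hv]
  | one => exact Commute.one_left _
  | mul x y _ _ hx hy => exact hx.mul_left hy
  | inv x _ hx => exact hx.inv_left

/-- What commutes with an involution fixing exactly one coset fixes that coset. -/
theorem smul_unique {M : Subgroup G} {β z : G} {y : G ⧸ M} (hy : β • y = y)
    (huniq : ∀ y', β • y' = y' → y' = y) (hc : Commute z β) : z • y = y := by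
  refine huniq _ ?_
  rw [smul_smul, ← hc.eq, ← smul_smul, hy]

namespace Hyp

variable (D : Hyp f) [Finite G]
include D

theorem sq_map {σ : A12} (h : σ * σ = 1) : f σ * f σ = 1 := by rw [← map_mul, h, map_one]

theorem eq_of_sq {σ : A12} (h : f σ * f σ = 1) : σ * σ = 1 :=
  D.inj (by rw [map_mul, map_one]; exact h)

/-- A conjugate of `f α` fixes one coset only. -/
theorem beta_facts (g : G) :
    (g * f alA * g⁻¹) • ((g : G) : G ⧸ f.range) = (g : G ⧸ f.range) ∧
    (∀ y' : G ⧸ f.range, (g * f alA * g⁻¹) • y' = y' → y' = (g : G ⧸ f.range)) ∧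
    g * f alA * g⁻¹ * (g * f alA * g⁻¹) = 1 := by
  have hb : (g : G ⧸ f.range) = g • base f := by
    rw [MulAction.Quotient.smul_mk, smul_eq_mul, mul_one]
  refine ⟨?_, fun y' h => ?_, ?_⟩
  · rw [hb, mul_smul, mul_smul, inv_smul_smul, range_base]
  · rw [mul_smul, mul_smul, ← eq_inv_smul_iff] at h
    have := D.fix12 sq_vals.1 sc_vals.1 h
    rw [hb, ← this, smul_inv_smul]
  · rw [show g * f alA * g⁻¹ * (g * f alA * g⁻¹) = g * (f alA * f alA) * g⁻¹ by group, D.sq_map sq_vals.1,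
      mul_one, mul_inv_cancel]

/-- An involution fixes a coset moved inside by an inner element. -/
theorem inner_conj_facts {h z : G} (hz : z • (h • base f) = h • base f) (hz2 : z * z = 1) (hz1 : z ≠ 1) :
    ∃ ζ : A12, f ζ = h⁻¹ * z * h ∧ ζ * ζ = 1 ∧ ζ ≠ 1 := by
  obtain ⟨ζ, hζ⟩ : h⁻¹ * z * h ∈ f.range :=
    smul_base_eq.1 (by rw [mul_smul, mul_smul, hz, inv_smul_smul])
  refine ⟨ζ, hζ, D.eq_of_sq ?_, fun e => hz1 ?_⟩
  · rw [hζ, show h⁻¹ * z * h * (h⁻¹ * z * h) = h⁻¹ * (z * z) * h by group, hz2, mul_one, inv_mul_cancel]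
  · rw [e, map_one] at hζ
    rw [show z = h * (h⁻¹ * z * h) * h⁻¹ by group, ← hζ, mul_one, mul_inv_cancel]

/-- An involution commuting with `u₄` fixes one of its fixed cosets. -/
theorem exists_fixed {z : G} (hz : Commute z (f u4A)) (hz2 : z * z = 1) :
    ∃ h ∈ inner f, z • (h • base f) = h • base f := by
  classical
  set S := {y : G ⧸ f.range | f u4A • y = y} with hS
  haveI : Fintype ↥S := Fintype.ofFinite _
  haveI : Fact (Nat.Prime 2) := ⟨Nat.prime_two⟩
  let π : Equiv.Perm ↥S :=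
    { toFun := fun y => ⟨z • (y : G ⧸ f.range), D.smul_fix hz y.2⟩
      invFun := fun y => ⟨z • (y : G ⧸ f.range), D.smul_fix hz y.2⟩
      left_inv := fun y => Subtype.ext (by
        change z • z • (y : G ⧸ f.range) = y
        rw [smul_smul, hz2, one_smul])
      right_inv := fun y => Subtype.ext (by
        change z • z • (y : G ⧸ f.range) = y
        rw [smul_smul, hz2, one_smul]) }
  have hodd : ¬ 2 ∣ Fintype.card ↥S := by
    rw [Fintype.card_eq_nat_card, Nat.card_coe_set_eq]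
    rcases D.fix_card with h | h <;> rw [hS, h] <;> decide
  obtain ⟨⟨y, hy⟩, hzy⟩ := Equiv.Perm.exists_fixed_point_of_prime (p := 2) (n := 1) hodd (σ := π)
    (Equiv.ext fun y => Subtype.ext (by
      change z • z • (y : G ⧸ f.range) = y
      rw [smul_smul, hz2, one_smul]))
  obtain ⟨h, hh, rfl⟩ := D.fix_exists hy
  exact ⟨h, hh, congrArg Subtype.val hzy⟩

variable {P : Set (G ⧸ f.range)} (hP : Good f P)
include hP

theorem mem_four_fix {y : G ⧸ f.range} (hy : f u4A • y = y) : y ∈ P := by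
  obtain ⟨h, hh, rfl⟩ := D.fix_exists hy
  exact hP.inner h hh _ hP.mem_base

theorem mem_eight {σ : A12} (hσ : σ * σ = 1) (h8 : sc σ = 8) {y : G ⧸ f.range} (hy : f σ • y = y) : y ∈ P := by
  obtain ⟨π, rfl⟩ := exists_conj sq_vals.2.1 hσ (sc_vals.2.1.trans h8.symm)
  rw [map_mul, map_mul, map_inv, mul_smul, mul_smul, ← eq_inv_smul_iff] at hy
  have := hP.range π _ (D.mem_four_fix hP hy)
  rwa [smul_inv_smul] at this

theorem mem_twelve {σ : A12} (hσ : σ * σ = 1) (h12 : sc σ = 12) {y : G ⧸ f.range} (hy : f σ • y = y) :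
    y ∈ P := D.fix12 hσ h12 hy ▸ hP.mem_base

/-- The cosets fixed by `u₂` and having a conjugate of `f α` commuting with the four group. -/
theorem mem_block {g : G} (hv : ∀ i, Commute (g * f alA * g⁻¹) (f (vA i)))
    (hu : f u2A • (g : G ⧸ f.range) = (g : G ⧸ f.range)) : (g : G ⧸ f.range) ∈ P := by
  obtain ⟨hfix, huniq, hβ2⟩ := D.beta_facts g
  set β := g * f alA * g⁻¹ with hβ
  set y := (g : G ⧸ f.range) with hy
  obtain ⟨v2, vc, v4, vx, vx8, -, v0, -⟩ := block_facts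
  obtain ⟨-, -, -, k3, -, v1', v2', xu, xeq, -, -, -, vxsq⟩ := branch_facts
  have hne : ∀ {σ τ : A12} {a : G}, σ * σ = 1 → τ * τ = 1 → a * f σ * a⁻¹ = f τ → sc σ = sc τ :=
    fun hσ hτ e => D.ne _ _ hσ hτ (isConj_iff.2 ⟨_, e⟩)
  rcases dihedral_full (D.sq_map sq_vals.2.2.2.1) hβ2 with
    ⟨a, -, e⟩ | ⟨z, hz, hz2, hz1, hzx, hzβ, a, -, hcases⟩
  · have := hne (σ := xA) (τ := alA) (a := g⁻¹ * a) sq_vals.2.2.2.1 sq_vals.1 (by
      rw [show g⁻¹ * a * f xA * (g⁻¹ * a)⁻¹ = g⁻¹ * (a * f xA * a⁻¹) * g by group, e, hβ]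
      group)
    rw [sc_vals.1, sc_vals.2.2.2.1] at this
    exact absurd this (by decide)
  have hzv : ∀ i, Commute z (f (vA i)) := fun i =>
    mem_closure_comm ((show Commute xA (vA i) from (vx i).symm).map f) (hv i) hz
  have hz4 : Commute z (f u4A) := by
    rw [show u4A = vA 0 * xA by rw [v0]; exact sq_vals.2.2.2.2.2.2.1, map_mul]
    exact (hzv 0).mul_right hzx
  obtain ⟨h, hh, hzh⟩ := D.exists_fixed hz4 hz2
  obtain ⟨ζ, hζ, hζ2, hζ1⟩ := D.inner_conj_facts hzh hz2 hz1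
  have hzy : z • y = y := smul_unique hfix huniq hzβ
  have hζy : f ζ • (h⁻¹ • y) = h⁻¹ • y := by
    rw [hζ, mul_smul, mul_smul, smul_inv_smul, hzy]
  obtain ⟨hh4, hhk⟩ := mem_inner.1 hh
  have hhv : ∀ i, Commute h (f (vA i)) := by
    refine Fin.forall_fin_succ.2 ⟨?_, Fin.forall_fin_succ.2 ⟨?_, Fin.forall_fin_succ.2 ⟨?_, fun i => i.elim0⟩⟩⟩
    · rw [v0, ← k3]; exact hhk _ (isK_kA 3)
    · rw [show Fin.succ (0 : Fin 2) = (1 : Fin 3) from rfl, v1']; exact hhk _ (isK_kA 0)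
    · rw [show Fin.succ (Fin.succ (0 : Fin 1)) = (2 : Fin 3) from rfl, v2']; exact hhk _ (isK_kA 4)
  have hgoal : h⁻¹ • y ∈ P → y ∈ P := fun hy' => by
    have := hP.inner h hh _ hy'
    rwa [smul_inv_smul] at this
  refine hgoal ?_
  rcases sc_cases hζ2 hζ1 with h4 | h8 | h12
  rotate_left
  · exact D.mem_eight hP hζ2 h8 hζy
  · exact D.mem_twelve hP hζ2 h12 hζy
  have hζv : ∀ i, ζ * vA i = vA i * ζ := fun i => D.inj (by
    rw [map_mul, map_mul, hζ]
    exact (((hhv i).inv_left.mul_left (hzv i)).mul_left (hhv i)).eq)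
  rcases four_types_block hζ2 h4 hζv with h8 | ⟨i, rfl⟩
  · refine D.mem_eight hP ?_ h8 ?_
    · rw [← v0, show ζ * vA 0 * (ζ * vA 0) = ζ * (vA 0 * ζ) * vA 0 by group, ← hζv 0,
        show ζ * (ζ * vA 0) * vA 0 = ζ * ζ * (vA 0 * vA 0) by group, hζ2, v2, one_mul]
    · have hu' : f u2A • (h⁻¹ • y) = h⁻¹ • y := by
        rw [smul_smul, ← v0, ← (hhv 0).inv_left.eq, ← smul_smul, v0, hu]
      rw [map_mul, mul_smul, hu', hζy]
  exfalso
  have hzeq : z = f (vA i) := by
    rw [show z = h * (h⁻¹ * z * h) * h⁻¹ by group, ← hζ, (hhv i).eq, mul_inv_cancel_right]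
  rcases hcases with ⟨e, -⟩ | ⟨e, -⟩ <;> rw [hzeq, ← map_mul] at e
  · have := hne sq_vals.2.2.2.1 (vxsq i) e
    rw [sc_vals.2.2.2.1, vx8 i] at this
    exact absurd this (by decide)
  · have := hne (σ := alA) (a := a * g) sq_vals.1 (vxsq i) (by
      rw [show a * g * f alA * (a * g)⁻¹ = a * (g * f alA * g⁻¹) * a⁻¹ by group, ← hβ]
      exact e)
    rw [sc_vals.1, vx8 i] at this
    exact absurd this (by decide)

/-- The cosets fixed by `u₂`. -/
theorem mem_two {y : G ⧸ f.range} (hy : f u2A • y = y) : y ∈ P := by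
  obtain ⟨g₀, rfl⟩ := QuotientGroup.mk_surjective y
  obtain ⟨σ, hσ⟩ : g₀⁻¹ * f u2A * g₀ ∈ f.range := by
    rw [MulAction.Quotient.smul_mk, smul_eq_mul, eq_comm, QuotientGroup.eq, ← mul_assoc] at hy
    exact hy
  have hσ2 : σ * σ = 1 := D.eq_of_sq (by
    rw [hσ, show g₀⁻¹ * f u2A * g₀ * (g₀⁻¹ * f u2A * g₀) = g₀⁻¹ * (f u2A * f u2A) * g₀ by group,
      D.sq_map sq_vals.2.2.1, mul_one, inv_mul_cancel])
  obtain ⟨π, hπ⟩ := exists_conj sq_vals.2.2.1 hσ2
    (D.ne u2A σ sq_vals.2.2.1 hσ2 (isConj_iff.2 ⟨g₀⁻¹, by rw [hσ, inv_inv]⟩))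
  set g := g₀ * f π with hg
  have hgy : (g : G ⧸ f.range) = (g₀ : G ⧸ f.range) := by
    rw [QuotientGroup.eq, hg, mul_inv_rev, inv_mul_cancel_right]
    exact inv_mem ⟨π, rfl⟩
  have hgu : Commute g (f u2A) := by
    rw [Commute, SemiconjBy, ← mul_inv_eq_iff_eq_mul, hg, show g₀ * f π * f u2A * (g₀ * f π)⁻¹ =
      g₀ * (f π * f u2A * (f π)⁻¹) * g₀⁻¹ by group, ← map_inv, ← map_mul, ← map_mul, hπ, hσ]
    group
  rw [← hgy] at hy ⊢
  obtain ⟨hfix, huniq, hβ2⟩ := D.beta_facts g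
  set β := g * f alA * g⁻¹ with hβ
  set y := (g : G ⧸ f.range) with hyd
  obtain ⟨au, -, -, -, -, -, -, -, -, -, wu2, au2, -⟩ := branch_facts
  obtain ⟨v2, vc, -, -, -, -, v0, -, w12, uw12, ua8, wu, -, -, -, w2, -, -⟩ := block_facts
  have hβu : Commute β (f u2A) := (hgu.mul_left ((show Commute alA u2A from au).map f)).mul_left hgu.inv_left
  have hβu8 : β * f u2A = g * f (alA * u2A) * g⁻¹ := by
    rw [hβ, map_mul, show g * (f alA * f u2A) * g⁻¹ = g * f alA * g⁻¹ * (g * f u2A * g⁻¹) by group, hgu.eq,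
      mul_inv_cancel_right]
  have hne : ∀ {σ τ : A12} {a : G}, σ * σ = 1 → τ * τ = 1 → a * f σ * a⁻¹ = f τ → sc σ = sc τ :=
    fun hσ hτ e => D.ne _ _ hσ hτ (isConj_iff.2 ⟨_, e⟩)
  have habs : ∀ {σ : A12} {a : G}, σ * σ = 1 → sc σ = 12 → a * f σ * a⁻¹ = β * f u2A → False := by
    intro σ a hσ h12 e
    have := hne (σ := σ) (τ := alA * u2A) (a := g⁻¹ * a) hσ au2 (by
      rw [show g⁻¹ * a * f σ * (g⁻¹ * a)⁻¹ = g⁻¹ * (a * f σ * a⁻¹) * g by group, e, hβu8]
      group)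
    rw [h12, au, ua8] at this
    exact absurd this (by decide)
  have hwu : Commute (f wA) (f u2A) := (show Commute wA u2A from wu).map f
  rcases dihedral_full (D.sq_map w2) hβ2 with
    ⟨a, ha, e⟩ | ⟨z, hz, hz2, hz1, hzw, hzβ, a, ha, hcases⟩
  · exfalso
    refine habs (σ := wA * u2A) (a := a) wu2 (by rw [wu, uw12]) ?_
    rw [map_mul, show a * (f wA * f u2A) * a⁻¹ = a * f wA * a⁻¹ * (a * f u2A * a⁻¹) by group, e,
      (mem_closure_comm hwu hβu ha).eq, mul_inv_cancel_right]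
  obtain ⟨ζ, rfl⟩ : z ∈ f.range := D.cent12 w2 w12 hzw
  have hζ2 : ζ * ζ = 1 := D.eq_of_sq hz2
  have hζ1 : ζ ≠ 1 := fun e => hz1 (by rw [e, map_one])
  have hζy : f ζ • y = y := smul_unique hfix huniq hzβ
  rcases sc_cases hζ2 hζ1 with h4 | h8 | h12
  rotate_left
  · exact D.mem_eight hP hζ2 h8 hζy
  · exact D.mem_twelve hP hζ2 h12 hζy
  have hζu : ζ * u2A = u2A * ζ := D.inj (by
    rw [map_mul, map_mul]; exact (mem_closure_comm hwu hβu hz).eq)
  have hζw : ζ * wA = wA * ζ := D.inj (by rw [map_mul, map_mul]; exact hzw)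
  have hζw2 : ζ * wA * (ζ * wA) = 1 := by
    rw [show ζ * wA * (ζ * wA) = ζ * (wA * ζ) * wA by group, ← hζw,
      show ζ * (ζ * wA) * wA = ζ * ζ * (wA * wA) by group, hζ2, w2, one_mul]
  have h12w : sc (ζ * wA) = 12 := by
    rcases hcases with ⟨e, -⟩ | ⟨e, -⟩ <;> rw [← map_mul] at e
    · exact (hne w2 hζw2 e).symm.trans w12
    · have := hne (σ := alA) (a := a * g) sq_vals.1 hζw2 (by
        rw [show a * g * f alA * (a * g)⁻¹ = a * (g * f alA * g⁻¹) * a⁻¹ by group, ← hβ]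
        exact e)
      exact this.symm.trans sc_vals.1
  rcases four_types_partner hζ2 h4 hζu hζw wu w12 h12w with h8 | ⟨i, rfl⟩
  · refine D.mem_eight hP ?_ h8 ?_
    · rw [show ζ * u2A * (ζ * u2A) = ζ * (u2A * ζ) * u2A by group, ← hζu,
        show ζ * (ζ * u2A) * u2A = ζ * ζ * (u2A * u2A) by group, hζ2, sq_vals.2.2.1, one_mul]
    · rw [map_mul, mul_smul, hy, hζy]
  by_cases hi : i = 0
  · exfalso
    rw [hi, v0] at hcases
    rcases hcases with ⟨-, e⟩ | ⟨-, e⟩
    · refine habs (σ := alA) (a := a * g) sq_vals.1 sc_vals.1 ?_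
      rw [show a * g * f alA * (a * g)⁻¹ = a * (g * f alA * g⁻¹) * a⁻¹ by group, ← hβ, e, hβu.eq]
    · refine habs (σ := wA) (a := a⁻¹) w2 w12 ?_
      rw [inv_inv, e, hβu.eq]
  refine D.mem_block hP (fun j => ?_) hy
  have hβi : Commute β (f (vA i)) := hzβ.symm
  have hβ0 : Commute β (f (vA 0)) := v0 ▸ hβu
  rcases (show ∀ i j : Fin 3, i ≠ 0 → j = 0 ∨ j = i ∨ vA j = vA 0 * vA i by decide +kernel) i j hi with
    rfl | rfl | e
  exacts [hβ0, hβi, by rw [e, map_mul]; exact hβ0.mul_right hβi]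

/-- Every involution of the image fixes cosets of the invariant set only. -/
theorem mem_invol {σ : A12} (hσ : σ * σ = 1) (h1 : σ ≠ 1) {y : G ⧸ f.range} (hy : f σ • y = y) : y ∈ P := by
  rcases sc_cases hσ h1 with h4 | h8 | h12
  · obtain ⟨π, rfl⟩ := exists_conj sq_vals.2.2.1 hσ (sc_vals.2.2.1.trans h4.symm)
    rw [map_mul, map_mul, map_inv, mul_smul, mul_smul, ← eq_inv_smul_iff] at hy
    have := hP.range π _ (D.mem_two hP hy)
    rwa [smul_inv_smul] at this
  · exact D.mem_eight hP hσ h8 hy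
  · exact D.mem_twelve hP hσ h12 hy

theorem mem_all (y : G ⧸ f.range) : y ∈ P := by
  obtain ⟨g, rfl⟩ := QuotientGroup.mk_surjective y
  obtain ⟨hfix, huniq, hβ2⟩ := D.beta_facts g
  rcases dihedral_full (D.sq_map sq_vals.2.1) hβ2 with
    ⟨a, -, e⟩ | ⟨z, -, hz2, hz1, hzu, hzβ, -⟩
  · have := D.ne u4A alA sq_vals.2.1 sq_vals.1 (isConj_iff.2 ⟨g⁻¹ * a, by
      rw [show g⁻¹ * a * f u4A * (g⁻¹ * a)⁻¹ = g⁻¹ * (a * f u4A * a⁻¹) * g by group, e]
      group⟩)
    rw [sc_vals.1, sc_vals.2.1] at this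
    exact absurd this (by decide)
  obtain ⟨h, hh, hzh⟩ := D.exists_fixed hzu hz2
  obtain ⟨ζ, hζ, hζ2, hζ1⟩ := D.inner_conj_facts hzh hz2 hz1
  have hzy := smul_unique hfix huniq hzβ
  have hm := D.mem_invol hP hζ2 hζ1 (y := h⁻¹ • (g : G ⧸ f.range))
    (by rw [hζ, mul_smul, mul_smul, smul_inv_smul, hzy])
  have := hP.inner h hh _ hm
  rwa [smul_inv_smul] at this

omit P hP in
theorem index_cases : f.range.index = 1 ∨ f.range.index = 13 := by
  obtain ⟨P, hP⟩ := D.exists_good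
  have hu : P = Set.univ := Set.eq_univ_of_forall (D.mem_all hP)
  rw [Subgroup.index, ← Set.ncard_univ, ← hu]
  exact hP.card

end Hyp

/-- The branches `A₁₂` and `A₁₃`. -/
theorem alt_branch [Finite G] (f : A12 →* G) (D : Hyp f) : Nonempty (G ≃* A12) ∨ Nonempty (G ≃* A13) := by
  rcases D.index_cases with h1 | h13
  · exact Or.inl ⟨((MonoidHom.ofInjective D.inj).trans
      ((MulEquiv.subgroupCongr (Subgroup.index_eq_one.1 h1)).trans Subgroup.topEquiv)).symm⟩
  right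
  classical
  haveI : Fintype (G ⧸ f.range) := Fintype.ofFinite _
  set φ := MulAction.toPermHom G (G ⧸ f.range) with hφ
  have hker : φ.ker = ⊥ := by
    haveI : IsSimpleGroup A12 := alternatingGroup.isSimpleGroup (by simp)
    have hle : φ.ker ≤ f.range := fun x hx => by
      have := Equiv.Perm.ext_iff.1 (MonoidHom.mem_ker.1 hx) (base f)
      exact smul_base_eq.1 this
    rcases (φ.normal_ker.comap f).eq_bot_or_eq_top with h | h
    · refine (Subgroup.eq_bot_iff_forall _).2 fun x hx => ?_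
      obtain ⟨σ, rfl⟩ := hle hx
      rw [show σ = 1 from (Subgroup.eq_bot_iff_forall _).1 h σ hx, map_one]
    · exfalso
      have hn : f.range.Normal := by
        have : φ.ker = f.range := le_antisymm hle fun x ⟨σ, hσ⟩ => hσ ▸
          (h.symm ▸ Subgroup.mem_top σ : σ ∈ φ.ker.comap f)
        exact this ▸ φ.normal_ker
      have htop : f.range = ⊤ := eq_top_iff.2 fun g _ =>
        D.move12 sq_vals.1 sc_vals.1 (hn.conj_mem _ ⟨alA, rfl⟩ g)
      rw [htop, Subgroup.index_top] at h13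
      exact absurd h13 (by decide)
  have hinj : Function.Injective φ := (MonoidHom.ker_eq_bot_iff φ).1 hker
  have hA : Nat.card A12 * 2 = Nat.factorial 12 := by
    rw [nat_card_alternatingGroup, Nat.card_fin]
    rfl
  have hQ : Nat.card (G ⧸ f.range) = 13 := h13
  have hG : Nat.card G = 13 * Nat.card A12 := by
    rw [Subgroup.card_eq_card_quotient_mul_card_subgroup f.range, hQ,
      Nat.card_congr (MonoidHom.ofInjective D.inj).toEquiv]
  have hidx : φ.range.index = 2 := by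
    have h := φ.range.card_mul_index
    rw [← Nat.card_congr (MonoidHom.ofInjective hinj).toEquiv, hG, Nat.card_perm, hQ,
      show Nat.factorial 13 = 13 * Nat.factorial 12 from rfl, ← hA, mul_assoc] at h
    have hpos : 0 < Nat.card A12 := Nat.card_pos
    exact Nat.eq_of_mul_eq_mul_left hpos (Nat.eq_of_mul_eq_mul_left (by decide) h)
  have e : G ⧸ f.range ≃ Fin 13 := Fintype.equivFinOfCardEq (by rw [Fintype.card_eq_nat_card, hQ])
  exact ⟨((MonoidHom.ofInjective hinj).trans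
    (MulEquiv.subgroupCongr (Equiv.Perm.eq_alternatingGroup_of_index_eq_two hidx))).trans (Equiv.altCongrHom e)⟩

end Cfsg.Agent.AltTwelve.Alt
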