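import Cfsg.Agent.Lib.AltTwelve.Alt.Gen

/-!
# Involutions of the alternating group of degree twelve
-/

set_option autoImplicit false
set_option maxRecDepth 100000
set_option synthInstance.maxSize 10000
set_option linter.style.haveILetI false

namespace Cfsg.Agent.AltTwelve.Alt

open Equiv Equiv.Perm
open Cfsg.Agent.AltTwelve.Sp (al)

/-- The number of moved points. -/
def sc (σ : A12) : ℕ := (σ : P12).support.card

/-- The involution without fixed points. -/
def alA : A12 := ⟨al, mem_alternatingGroup.2 facts_sign.1⟩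

/-- Four transpositions. -/
def u4A : A12 := ⟨u4P, mem_alternatingGroup.2 facts_sign.2.1⟩

/-- Two transpositions. -/
def u2A : A12 := ⟨u2P, mem_alternatingGroup.2 facts_sign.2.2.1⟩

/-- The other half of `u₄`. -/
def xA : A12 := ⟨xP, mem_alternatingGroup.2 facts_sign.2.2.2.1⟩

/-- The four group on the four points outside. -/
def dA (i : Fin 3) : A12 := ⟨dP i, mem_alternatingGroup.2 (facts_sign.2.2.2.2.1 i)⟩

/-- The three cycle. -/
def cA : A12 := ⟨cP, mem_alternatingGroup.2 facts_sign.2.2.2.2.2.1⟩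

/-- The element inverting it. -/
def sA : A12 := ⟨sP, mem_alternatingGroup.2 facts_sign.2.2.2.2.2.2.1⟩

/-- Involutions inside the eight points. -/
def kA (i : Fin 5) : A12 := ⟨kP i, mem_alternatingGroup.2 (facts_sign.2.2.2.2.2.2.2.1 i)⟩

/-- An involution inside the second octad. -/
def k8A : A12 := ⟨k8P, mem_alternatingGroup.2 facts_sign.2.2.2.2.2.2.2.2.1⟩

/-- The element between the octads. -/
def mA : A12 := ⟨mP, mem_alternatingGroup.2 facts_sign.2.2.2.2.2.2.2.2.2⟩

/-- An involution of `u₄`'s centralizer fixing the four points outside. -/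
def IsK (σ : A12) : Prop :=
  σ * u4A = u4A * σ ∧ σ * σ = 1 ∧ σ ≠ 1 ∧ ∀ i : Fin 12, 8 ≤ i.val → (σ : P12) i = i

theorem sq_apply {σ : A12} (h : σ * σ = 1) (i : Fin 12) : (σ : P12) ((σ : P12) i) = i := by
  rw [← Equiv.Perm.mul_apply, ← Subgroup.coe_mul, h]
  rfl

theorem comm_apply {σ τ : A12} (h : σ * τ = τ * σ) (i : Fin 12) :
    (σ : P12) ((τ : P12) i) = (τ : P12) ((σ : P12) i) := by
  rw [← Equiv.Perm.mul_apply, ← Equiv.Perm.mul_apply, ← Subgroup.coe_mul, ← Subgroup.coe_mul, h]

theorem cycleType_invol {σ : A12} (h : σ * σ = 1) :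
    (σ : P12).cycleType = Multiset.replicate ((σ : P12).cycleType.card) 2 := by
  haveI : Fact (Nat.Prime 2) := ⟨Nat.prime_two⟩
  refine cycleType_of_pow_prime_eq_one ?_
  rw [pow_two]
  exact congrArg Subtype.val h

theorem sc_eq {σ : A12} (h : σ * σ = 1) : sc σ = 2 * (σ : P12).cycleType.card := by
  rw [sc, ← sum_cycleType]
  conv_lhs => rw [cycleType_invol h]
  rw [Multiset.sum_replicate, smul_eq_mul, mul_comm]

theorem sc_cases {σ : A12} (h : σ * σ = 1) (h1 : σ ≠ 1) : sc σ = 4 ∨ sc σ = 8 ∨ sc σ = 12 := by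
  set n := (σ : P12).cycleType.card with hn
  have hs : Equiv.Perm.sign (σ : P12) = 1 := mem_alternatingGroup.1 σ.2
  rw [sign_of_cycleType, sum_cycleType] at hs
  have he := sc_eq h
  rw [sc] at he
  rw [he, ← hn] at hs
  have heven : Even n := by
    by_contra hodd
    rw [Nat.not_even_iff_odd] at hodd
    have : Odd (2 * n + n) := by
      rw [show 2 * n + n = n + 2 * n by ring]
      exact hodd.add_even (even_two_mul n)
    rw [this.neg_one_pow] at hs
    exact absurd hs (by decide)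
  have hle : 2 * n ≤ 12 := by
    rw [← he]
    exact (Finset.card_le_univ _).trans (by simp)
  have h0 : n ≠ 0 := by
    intro h0
    refine h1 (Subtype.ext ?_)
    exact cycleType_eq_zero.1 (Multiset.card_eq_zero.1 h0)
  obtain ⟨m, hm⟩ := heven
  rw [sc, he, ← hn]
  omega

/-- Involutions moving as many points are conjugate. -/
theorem exists_conj {σ τ : A12} (hσ : σ * σ = 1) (hτ : τ * τ = 1) (h : sc σ = sc τ) :
    ∃ π : A12, π * σ * π⁻¹ = τ := by
  have hc : IsConj (σ : P12) (τ : P12) := by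
    rw [isConj_iff_cycleType_eq, cycleType_invol hσ, cycleType_invol hτ]
    congr 1
    have h1 := sc_eq hσ
    have h2 := sc_eq hτ
    omega
  obtain ⟨π, hπ⟩ := isConj_iff.1 hc
  rcases Int.units_eq_one_or (Equiv.Perm.sign π) with hs | hs
  · exact ⟨⟨π, mem_alternatingGroup.2 hs⟩, Subtype.ext hπ⟩
  by_cases h1 : σ = 1
  · refine ⟨1, ?_⟩
    rw [h1]
    refine Subtype.ext ?_
    rw [← hπ, h1]
    simp
  obtain ⟨a, ha⟩ : ∃ a, (σ : P12) a ≠ a := by
    by_contra! hall
    exact h1 (Subtype.ext (Equiv.ext hall))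
  refine ⟨⟨π * Equiv.swap a ((σ : P12) a), mem_alternatingGroup.2 ?_⟩, Subtype.ext ?_⟩
  · rw [map_mul, hs, Equiv.Perm.sign_swap (Ne.symm ha)]
    rfl
  · have hsw : Equiv.swap a ((σ : P12) a) * (σ : P12) = (σ : P12) * Equiv.swap a ((σ : P12) a) := by
      rw [Equiv.mul_swap_eq_swap_mul, sq_apply hσ, Equiv.swap_comm]
    simp only [Subgroup.coe_mul, Subgroup.coe_inv, mul_inv_rev, Equiv.swap_inv]
    rw [show π * Equiv.swap a ((σ : P12) a) * (σ : P12) * (Equiv.swap a ((σ : P12) a) * π⁻¹) =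
      π * (Equiv.swap a ((σ : P12) a) * (σ : P12) * Equiv.swap a ((σ : P12) a)) * π⁻¹ by group, hsw,
      mul_assoc (σ : P12), Equiv.swap_mul_self, mul_one, hπ]

theorem sc_one : sc 1 = 0 := by simp [sc]

theorem sc_vals : sc alA = 12 ∧ sc u4A = 8 ∧ sc u2A = 4 ∧ sc xA = 4 ∧ (∀ i, sc (dA i) = 4) ∧
    (∀ i, sc (u4A * dA i) = 12) := by
  decide +kernel

theorem sq_vals : alA * alA = 1 ∧ u4A * u4A = 1 ∧ u2A * u2A = 1 ∧ xA * xA = 1 ∧
    (∀ i, dA i * dA i = 1) ∧ (∀ i, kA i * kA i = 1) ∧ u4A = u2A * xA ∧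
    (∀ i, dA i * u4A = u4A * dA i) ∧ (∀ i j, dA i * dA j = dA j * dA i) ∧
    (∀ i j, i ≠ j → ∃ k, dA i * dA j = dA k) ∧ (∀ i j, dA i = dA j → i = j) := by
  decide +kernel

/-- The inner involutions used. -/
theorem isK_kA (i : Fin 5) : IsK (kA i) := by
  refine (show ∀ i : Fin 5, kA i * u4A = u4A * kA i ∧ kA i * kA i = 1 ∧ kA i ≠ 1 ∧
    ∀ j : Fin 12, 8 ≤ j.val → (kA i : P12) j = j by decide +kernel) i

theorem u4_supp : ∀ i : Fin 12, (u4P i ≠ i ↔ i.val < 8) ∧
    (u2P i ≠ i ↔ i.val < 4) := by decide +kernel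

theorem preserves8 {σ : A12} (h : σ * u4A = u4A * σ) (i : Fin 12) :
    ((σ : P12) i).val < 8 ↔ i.val < 8 := by
  rw [← (u4_supp _).1, ← (u4_supp i).1]
  have := comm_apply h i
  exact not_congr ⟨fun e => (σ : P12).injective ((this.trans e)), fun e => this.symm.trans (congrArg _ e)⟩

theorem preserves4 {σ : A12} (h : σ * u2A = u2A * σ) (i : Fin 12) :
    ((σ : P12) i).val < 4 ↔ i.val < 4 := by
  rw [← (u4_supp _).2, ← (u4_supp i).2]
  have := comm_apply h i
  exact not_congr ⟨fun e => (σ : P12).injective ((this.trans e)), fun e => this.symm.trans (congrArg _ e)⟩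

/-- Even permutations agreeing off the last two points are equal. -/
theorem eq_of_agree {σ τ : A12} (h : ∀ i : Fin 12, i.val < 10 → (σ : P12) i = (τ : P12) i) : σ = τ := by
  have hfix : ∀ i : Fin 12, i.val < 10 → ((σ⁻¹ * τ : A12) : P12) i = i := fun i hi => by
    rw [Subgroup.coe_mul, Equiv.Perm.mul_apply, Subgroup.coe_inv, Equiv.Perm.inv_eq_iff_eq]
    exact (h i hi).symm
  have hge : ∀ i : Fin 12, ¬ i.val < 10 → i = 10 ∨ i = 11 := by decide
  have key : ∀ i : Fin 12, ¬ i.val < 10 → ¬ (((σ⁻¹ * τ : A12) : P12) i).val < 10 := fun i hi h' => by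
    have := ((σ⁻¹ * τ : A12) : P12).injective (hfix _ h')
    rw [this] at h'
    exact hi h'
  have h10 := hge _ (key 10 (by decide))
  have h11 := hge _ (key 11 (by decide))
  have hone : σ⁻¹ * τ = 1 := by
    rcases h10 with e | e
    · refine Subtype.ext (Equiv.ext fun i => ?_)
      by_cases hi : i.val < 10
      · exact hfix i hi
      rcases hge i hi with rfl | rfl
      · exact e
      · rcases h11 with e' | e'
        · exact absurd (((σ⁻¹ * τ : A12) : P12).injective (e.trans e'.symm)) (by decide)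
        · exact e'
    · exfalso
      have hsw : ((σ⁻¹ * τ : A12) : P12) = Equiv.swap 10 11 := by
        refine Equiv.ext fun i => ?_
        by_cases hi : i.val < 10
        · rw [hfix i hi, Equiv.swap_apply_of_ne_of_ne]
          · exact fun e => by rw [e] at hi; exact absurd hi (by decide)
          · exact fun e => by rw [e] at hi; exact absurd hi (by decide)
        rcases hge i hi with rfl | rfl
        · rw [Equiv.swap_apply_left]; exact e
        · rw [Equiv.swap_apply_right]
          rcases h11 with e' | e'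
          · exact e'
          · exact absurd (((σ⁻¹ * τ : A12) : P12).injective (e.trans e'.symm)) (by decide)
      have := mem_alternatingGroup.1 (σ⁻¹ * τ : A12).2
      rw [hsw, Equiv.Perm.sign_swap (by decide)] at this
      exact absurd this (by decide)
  exact inv_mul_eq_one.1 hone

theorem dA_apply : (dA 0 : P12) 8 = 9 ∧ (dA 1 : P12) 8 = 10 ∧ (dA 2 : P12) 8 = 11 ∧
    (∀ i : Fin 3, ∀ j : Fin 12, j.val < 8 → (dA i : P12) j = j) ∧
    (dA 0 : P12) 9 = 8 ∧ (dA 1 : P12) 9 = 11 ∧ (dA 2 : P12) 9 = 10 := by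
  decide +kernel

/-- A permutation on the four points outside commuting with the four group's first element. -/
theorem rest_four {σ : A12} (h : ∀ i : Fin 12, i.val < 8 → (σ : P12) i = i) (hc : σ * dA 0 = dA 0 * σ) :
    σ = 1 ∨ ∃ i, σ = dA i := by
  obtain ⟨d08, d18, d28, dfix, d09, d19, d29⟩ := dA_apply
  have h8 : ¬ ((σ : P12) 8).val < 8 := fun h' => by
    have := (σ : P12).injective (h _ h')
    rw [this] at h'
    exact absurd h' (by decide)
  have h9 : (σ : P12) 9 = (dA 0 : P12) ((σ : P12) 8) := by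
    rw [← comm_apply hc, d08]
  have hlt : ∀ i : Fin 12, i.val < 10 → i.val < 8 ∨ i = 8 ∨ i = 9 := by decide
  have mk : ∀ τ : A12, (∀ i : Fin 12, i.val < 8 → (τ : P12) i = i) → (σ : P12) 8 = (τ : P12) 8 →
      (σ : P12) 9 = (τ : P12) 9 → σ = τ := fun τ ht e8 e9 => eq_of_agree fun i hi => by
    rcases hlt i hi with h' | rfl | rfl
    exacts [(h i h').trans (ht i h').symm, e8, e9]
  rcases (show ∀ i : Fin 12, ¬ i.val < 8 → i = 8 ∨ i = 9 ∨ i = 10 ∨ i = 11 by decide) _ h8 with e | e | e | e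
  · exact Or.inl (mk 1 (fun _ _ => rfl) e (by rw [h9, e, d08]; rfl))
  · exact Or.inr ⟨0, mk _ (dfix 0) (e.trans d08.symm) (by rw [h9, e])⟩
  · exact Or.inr ⟨1, mk _ (dfix 1) (e.trans d18.symm) (by rw [h9, e, d19]; decide +kernel)⟩
  · exact Or.inr ⟨2, mk _ (dfix 2) (e.trans d28.symm) (by rw [h9, e, d29]; decide +kernel)⟩

/-- The conjugates of the four group's elements inside. -/
theorem mem_four {σ : A12} (hs : σ * σ = 1) (hc : σ * u4A = u4A * σ) (h4 : sc σ = 4)
    (h12 : sc (σ * u4A) = 12) : ∃ i, σ = dA i := by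
  have hrest : ∀ i : Fin 12, ¬ i.val < 8 → (σ : P12) i ≠ i := by
    intro i hi e
    have hall : ((σ * u4A : A12) : P12).support = Finset.univ :=
      Finset.eq_univ_of_card _ (h12.trans (Fintype.card_fin 12).symm)
    have := Equiv.Perm.mem_support.1 (hall ▸ Finset.mem_univ i : i ∈ ((σ * u4A : A12) : P12).support)
    refine this ?_
    rw [Subgroup.coe_mul, Equiv.Perm.mul_apply]
    change (σ : P12) (u4P i) = i
    rw [not_not.1 (fun h => hi ((u4_supp i).1.1 h)), e]
  have hsub : ({8, 9, 10, 11} : Finset (Fin 12)) ⊆ (σ : P12).support := by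
    intro i hi
    refine Equiv.Perm.mem_support.2 (hrest i ?_)
    simp only [Finset.mem_insert, Finset.mem_singleton] at hi
    rcases hi with rfl | rfl | rfl | rfl <;> decide
  have heq := Finset.eq_of_subset_of_card_le hsub (by rw [← sc, h4]; rfl)
  have hfix : ∀ i : Fin 12, i.val < 8 → (σ : P12) i = i := fun i hi => by
    by_contra h
    have := Equiv.Perm.mem_support.2 h
    rw [← heq] at this
    simp only [Finset.mem_insert, Finset.mem_singleton] at this
    rcases this with rfl | rfl | rfl | rfl <;> exact absurd hi (by decide)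
  have h8 := hrest 8 (by decide)
  have h8' : ¬ ((σ : P12) 8).val < 8 := fun h' => absurd ((preserves8 hc 8).1 h') (by decide)
  obtain ⟨d08, d18, d28, dfix, d09, d19, d29⟩ := dA_apply
  have hge : ∀ i : Fin 12, ¬ i.val < 8 → i = 8 ∨ i = 9 ∨ i = 10 ∨ i = 11 := by decide
  have h9' : ¬ ((σ : P12) 9).val < 8 := fun h' => absurd ((preserves8 hc 9).1 h') (by decide)
  have h99 := hrest 9 (by decide)
  have hlt : ∀ i : Fin 12, i.val < 10 → i.val < 8 ∨ i = 8 ∨ i = 9 := by decide
  have mk : ∀ j : Fin 3, (σ : P12) 8 = (dA j : P12) 8 → (σ : P12) 9 = (dA j : P12) 9 → ∃ i, σ = dA i :=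
    fun j e8 e9 => ⟨j, eq_of_agree fun i hi => by
      rcases hlt i hi with h' | rfl | rfl
      exacts [(hfix i h').trans (dfix j i h').symm, e8, e9]⟩
  rcases hge _ h8' with e | e | e | e
  · exact absurd e h8
  · exact mk 0 (e.trans d08.symm) (by rw [d09, ← e, sq_apply hs])
  all_goals
    rcases hge _ h9' with e9 | e9 | e9 | e9
    · have := congrArg (σ : P12) e9
      rw [sq_apply hs, e] at this
      exact absurd this (by decide)
    · exact absurd e9 h99
  · exact absurd ((σ : P12).injective (e.trans e9.symm)) (by decide)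
  · exact mk 1 (e.trans d18.symm) (e9.trans d19.symm)
  · exact mk 2 (e.trans d28.symm) (e9.trans d29.symm)
  · exact absurd ((σ : P12).injective (e.trans e9.symm)) (by decide)

/-- An inner involution times an element of the four group. -/
theorem sc_mul_four {k : A12} (hk : IsK k) (i : Fin 3) :
    sc (k * dA i) = sc k + 4 ∧ k * dA i = dA i * k := by
  have hd : Equiv.Perm.Disjoint (k : P12) (dA i : P12) := fun j => by
    by_cases h : j.val < 8
    · exact Or.inr (dA_apply.2.2.2.1 i j h)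
    · exact Or.inl (hk.2.2.2 j (by omega))
  refine ⟨?_, Subtype.ext hd.commute.eq⟩
  rw [sc, Subgroup.coe_mul, hd.card_support_mul, ← sc, ← sc, sc_vals.2.2.2.2.1]

theorem isK_not_four {k : A12} (hk : IsK k) (i : Fin 3) : k ≠ dA i := by
  intro e
  have := hk.2.2.2 8 (by decide)
  rw [e] at this
  exact (show ∀ i : Fin 3, (dA i : P12) 8 ≠ 8 by decide +kernel) i this

theorem isK_mul_not_four {k : A12} (hk : IsK k) (i j : Fin 3) : k * dA i ≠ dA j := by
  intro e
  have h1 := (sc_mul_four hk i).1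
  rw [e, sc_vals.2.2.2.2.1] at h1
  rcases sc_cases hk.2.1 hk.2.2.1 with h | h | h <;> omega

/-- Moving the element of the four group. -/
theorem exists_other {z : A12} (hz : z * u4A = u4A * z) (hd : z * dA 0 = dA 0 * z) :
    ∃ j, z * dA j = dA j * z ∧ sc z < sc (z * dA j) + 4 := by
  by_cases h : ∀ i : Fin 12, 8 ≤ i.val → (z : P12) i = (dA 0 : P12) i
  · refine ⟨1, Subtype.ext (Equiv.ext fun i => ?_), ?_⟩
    · simp only [Subgroup.coe_mul, Equiv.Perm.mul_apply]
      by_cases hi : i.val < 8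
      · rw [dA_apply.2.2.2.1 1 i hi, dA_apply.2.2.2.1 1 _ ((preserves8 hz i).2 hi)]
      · have h1 : 8 ≤ ((dA 1 : P12) i).val :=
          (show ∀ j : Fin 12, 8 ≤ j.val → 8 ≤ ((dA 1 : P12) j).val by decide +kernel) i (by omega)
        rw [h _ h1, h i (by omega)]
        exact comm_apply (sq_vals.2.2.2.2.2.2.2.2.1 0 1) i
    · refine lt_of_le_of_lt (Finset.card_le_card
        (t := ((z * dA 1 : A12) : P12).support.filter (fun i => i.val < 8) ∪ {8, 9, 10, 11}) fun i hi => ?_) ?_
      · by_cases h8 : i.val < 8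
        · refine Finset.mem_union_left _ (Finset.mem_filter.2 ⟨Equiv.Perm.mem_support.2 ?_, h8⟩)
          rw [Subgroup.coe_mul, Equiv.Perm.mul_apply, dA_apply.2.2.2.1 1 i h8]
          exact Equiv.Perm.mem_support.1 hi
        · refine Finset.mem_union_right _ ?_
          rcases (show ∀ j : Fin 12, ¬ j.val < 8 → j = 8 ∨ j = 9 ∨ j = 10 ∨ j = 11 by decide) i h8 with
            rfl | rfl | rfl | rfl <;> decide
      · have h8m : (8 : Fin 12) ∈ ((z * dA 1 : A12) : P12).support := by
          refine Equiv.Perm.mem_support.2 ?_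
          rw [Subgroup.coe_mul, Equiv.Perm.mul_apply, h _ (by decide +kernel)]
          decide +kernel
        refine lt_of_le_of_lt (Finset.card_union_le _ _) ?_
        rw [show ({8, 9, 10, 11} : Finset (Fin 12)).card = 4 from rfl, sc]
        refine Nat.add_lt_add_right (Finset.card_lt_card ⟨Finset.filter_subset _ _, fun hs => ?_⟩) 4
        have := hs h8m
        simp at this
  · push Not at h
    obtain ⟨j, hj, hne⟩ := h
    refine ⟨0, hd, ?_⟩
    refine lt_of_le_of_lt (Finset.card_le_card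
      (t := ((z * dA 0 : A12) : P12).support.filter (fun i => i.val < 8) ∪ {8, 9, 10, 11}) fun i hi => ?_) ?_
    · by_cases h8 : i.val < 8
      · refine Finset.mem_union_left _ (Finset.mem_filter.2 ⟨Equiv.Perm.mem_support.2 ?_, h8⟩)
        rw [Subgroup.coe_mul, Equiv.Perm.mul_apply, dA_apply.2.2.2.1 0 i h8]
        exact Equiv.Perm.mem_support.1 hi
      · refine Finset.mem_union_right _ ?_
        rcases (show ∀ j : Fin 12, ¬ j.val < 8 → j = 8 ∨ j = 9 ∨ j = 10 ∨ j = 11 by decide) i h8 with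
          rfl | rfl | rfl | rfl <;> decide
    · have hjm : j ∈ ((z * dA 0 : A12) : P12).support := by
        refine Equiv.Perm.mem_support.2 ?_
        rw [Subgroup.coe_mul, Equiv.Perm.mul_apply]
        intro e
        refine hne ?_
        rw [comm_apply hd] at e
        have h2 := congrArg (dA 0 : P12) e
        rwa [sq_apply (sq_vals.2.2.2.2.1 0)] at h2
      refine lt_of_le_of_lt (Finset.card_union_le _ _) ?_
      rw [show ({8, 9, 10, 11} : Finset (Fin 12)).card = 4 from rfl, sc]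
      refine Nat.add_lt_add_right (Finset.card_lt_card ⟨Finset.filter_subset _ _, fun hs => ?_⟩) 4
      have := (Finset.mem_filter.1 (hs hjm)).2
      omega

/-- Elements moving the point `0` to the other seven. -/
def reachK : Fin 12 → P12 :=
  ![1, kP 3, kP 0, kP 3 * kP 0, kP 1 * kP 0, kP 1 * (kP 3 * kP 0), kP 2 * (kP 1 * kP 0),
    kP 2 * (kP 1 * (kP 3 * kP 0)), 1, 1, 1, 1]

theorem reachK_spec : (∀ x : Fin 12, x.val < 8 → reachK x 0 = x) ∧
    ∀ c : Fin 12, (∀ k : Fin 5, ∀ x : Fin 12, x.val < 8 → kP k (reachK x c) = reachK (kP k x) c) →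
      kP 3 c ≠ c → (∀ x : Fin 12, x.val < 8 → reachK x c = x) ∨ (∀ x : Fin 12, x.val < 8 → reachK x c = u4P x) := by
  decide +kernel

/-- What commutes with the inner involutions. -/
theorem inner_split {σ : A12} (h4 : σ * u4A = u4A * σ) (hk : ∀ i, σ * kA i = kA i * σ) :
    ∃ τ : A12, (σ = τ ∨ σ = u4A * τ) ∧ ∀ i : Fin 12, i.val < 8 → (τ : P12) i = i := by
  have hc : ∀ k, Commute (σ : P12) (kP k) := fun k => congrArg Subtype.val (hk k)
  have hr : ∀ x, Commute (σ : P12) (reachK x) := by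
    have e1 := Commute.one_right (σ : P12)
    have e3 := (hc 3).mul_right (hc 0)
    have e4 := (hc 1).mul_right (hc 0)
    have e5 := (hc 1).mul_right e3
    simp only [reachK, Fin.forall_fin_succ, Matrix.cons_val_zero, Matrix.cons_val_succ, IsEmpty.forall_iff,
      and_true]
    exact ⟨e1, hc 3, hc 0, e3, e4, e5, (hc 2).mul_right e4, (hc 2).mul_right e5, e1, e1, e1, e1⟩
  have he : ∀ x : Fin 12, x.val < 8 → (σ : P12) x = reachK x ((σ : P12) 0) := fun x hx => by
    conv_lhs => rw [← reachK_spec.1 x hx]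
    rw [← Equiv.Perm.mul_apply, (hr x).eq, Equiv.Perm.mul_apply]
  have hkp : ∀ (k : Fin 5) (x : Fin 12), x.val < 8 → (kP k x).val < 8 := by decide +kernel
  have h3 : kP 3 ((σ : P12) 0) ≠ (σ : P12) 0 := by
    rw [← Equiv.Perm.mul_apply, ← (hc 3).eq, Equiv.Perm.mul_apply]
    exact fun e => absurd ((σ : P12).injective e) (by decide +kernel)
  rcases reachK_spec.2 ((σ : P12) 0) (fun k x hx => by
      rw [← he _ (hkp k x hx), ← he x hx, ← Equiv.Perm.mul_apply, ← (hc k).eq, Equiv.Perm.mul_apply]) h3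
    with e | e
  · exact ⟨σ, Or.inl rfl, fun i hi => (he i hi).trans (e i hi)⟩
  · refine ⟨u4A * σ, Or.inr (by rw [← mul_assoc, sq_vals.2.1, one_mul]), fun i hi => ?_⟩
    rw [Subgroup.coe_mul, Equiv.Perm.mul_apply, he i hi, e i hi]
    exact sq_apply sq_vals.2.1 i

/-- The part of `u₄`'s centralizer commuting with the inner involutions is small. -/
theorem inner_det {σ τ : A12} (hσ4 : σ * u4A = u4A * σ) (hσ : ∀ i, σ * kA i = kA i * σ)
    (hτ4 : τ * u4A = u4A * τ) (hτ : ∀ i, τ * kA i = kA i * τ) (h0 : (σ : P12) 0 = (τ : P12) 0)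
    (h8 : (σ : P12) 8 = (τ : P12) 8) (h9 : (σ : P12) 9 = (τ : P12) 9) : σ = τ := by
  obtain ⟨a, ha, hfa⟩ := inner_split hσ4 hσ
  obtain ⟨b, hb, hfb⟩ := inner_split hτ4 hτ
  have hlt : ∀ i : Fin 12, i.val < 10 → i.val < 8 ∨ i = 8 ∨ i = 9 := by decide
  have hu : u4P 0 ≠ 0 ∧ (0 : Fin 12).val < 8 := by decide +kernel
  refine eq_of_agree fun i hi => ?_
  rcases hlt i hi with h' | rfl | rfl
  · rcases ha with rfl | rfl <;> rcases hb with rfl | rfl
    · rw [hfa i h', hfb i h']
    · rw [Subgroup.coe_mul, Equiv.Perm.mul_apply, hfa 0 hu.2, hfb 0 hu.2] at h0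
      exact absurd h0.symm hu.1
    · rw [Subgroup.coe_mul, Equiv.Perm.mul_apply, hfa 0 hu.2, hfb 0 hu.2] at h0
      exact absurd h0 hu.1
    · simp only [Subgroup.coe_mul, Equiv.Perm.mul_apply, hfa i h', hfb i h']
  · exact h8
  · exact h9

theorem inner_ranges {σ : A12} (hσ4 : σ * u4A = u4A * σ) (hσ : ∀ i, σ * kA i = kA i * σ) :
    ((σ : P12) 0).val < 2 ∧ 8 ≤ ((σ : P12) 8).val ∧ 8 ≤ ((σ : P12) 9).val := by
  refine ⟨?_, not_lt.1 fun h => absurd ((preserves8 hσ4 8).1 h) (by decide),
    not_lt.1 fun h => absurd ((preserves8 hσ4 9).1 h) (by decide)⟩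
  obtain ⟨a, ha, hfa⟩ := inner_split hσ4 hσ
  rcases ha with rfl | rfl
  · rw [hfa 0 (by decide)]; decide
  · rw [Subgroup.coe_mul, Equiv.Perm.mul_apply, hfa 0 (by decide)]
    decide +kernel

/-- The four group on the first block. -/
def vA : Fin 3 → A12 := ![u2A, kA 0, kA 4]

/-- The element without fixed points meeting `u₂` in no pair. -/
def wA : A12 := kA 0 * (xA * dA 0)

theorem block_facts : (∀ i, vA i * vA i = 1) ∧ (∀ i j, vA i * vA j = vA j * vA i) ∧
    (∀ i, sc (vA i) = 4) ∧ (∀ i, vA i * xA = xA * vA i) ∧ (∀ i, sc (vA i * xA) = 8) ∧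
    (∀ i j, i ≠ j → ∃ k, vA i * vA j = vA k) ∧ vA 0 = u2A ∧
    (∀ i, ∀ a : Fin 12, a.val < 4 → ((vA i : A12) : P12) a ≠ a) ∧
    sc wA = 12 ∧ sc (u2A * wA) = 12 ∧ sc (u2A * alA) = 8 ∧ wA * u2A = u2A * wA ∧ alA * u2A = u2A * alA ∧
    (∀ a : Fin 12, ((vA 1 : A12) : P12) a = a ↔ ¬ a.val < 4) ∧
    (∀ i, vA i ≠ 1) ∧ wA * wA = 1 ∧ (∀ i, vA i * kA 3 = kA 3 * vA i) ∧ kA 3 = u2A := by
  decide +kernel

theorem v_apply : ∀ a b : Fin 12, a.val < 4 → b.val < 4 → a ≠ b → ∃ i, ((vA i : A12) : P12) a = b := by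
  decide +kernel

theorem v_ext : ∀ i a, a = (0 : Fin 12) → ∀ j, ((vA i : A12) : P12) a = ((vA j : A12) : P12) a → i = j := by
  decide +kernel

/-- An involution moving four points and commuting with `u₂` is apart from it, is one of the three, or is mixed. -/
theorem four_types {z : A12} (hz : z * z = 1) (h4 : sc z = 4) (hc : z * u2A = u2A * z)
    (hmix : ∀ a b : Fin 12, a.val < 4 → ¬ b.val < 4 → (z : P12) a ≠ a → (z : P12) b ≠ b → False) :
    sc (z * u2A) = 8 ∨ ∃ i, z = vA i := by
  obtain ⟨v2, vc, v4, vx, -⟩ := block_facts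
  by_cases h : ∃ a : Fin 12, a.val < 4 ∧ (z : P12) a ≠ a
  · right
    obtain ⟨a, ha, hza⟩ := h
    have hout : ∀ b : Fin 12, ¬ b.val < 4 → (z : P12) b = b := fun b hb => by
      by_contra hzb
      exact hmix a b ha hb hza hzb
    have hsub : (z : P12).support ⊆ {0, 1, 2, 3} := fun b hb => by
      have hb4 : b.val < 4 := by
        by_contra h'
        exact Equiv.Perm.mem_support.1 hb (hout b h')
      rcases (show ∀ j : Fin 12, j.val < 4 → j = 0 ∨ j = 1 ∨ j = 2 ∨ j = 3 by decide) b hb4 with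
        rfl | rfl | rfl | rfl <;> decide
    have heq := Finset.eq_of_subset_of_card_le hsub (by rw [← sc, h4]; rfl)
    have hmv : ∀ b : Fin 12, b.val < 4 → (z : P12) b ≠ b := fun b hb => by
      refine Equiv.Perm.mem_support.1 ?_
      rw [heq]
      rcases (show ∀ j : Fin 12, j.val < 4 → j = 0 ∨ j = 1 ∨ j = 2 ∨ j = 3 by decide) b hb with
        rfl | rfl | rfl | rfl <;> decide
    have hz0 : ((z : P12) 0).val < 4 := (preserves4 hc 0).2 (by decide)
    obtain ⟨i, hi⟩ := v_apply 0 ((z : P12) 0) (by decide) hz0 (hmv 0 (by decide)).symm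
    refine ⟨i, eq_of_agree fun b _ => ?_⟩
    by_cases hb : b.val < 4
    · have hpair : ∀ (i : Fin 3) (x y : Fin 12), x.val < 4 → y.val < 4 → x ≠ y → x ≠ 0 →
          x ≠ ((vA i : A12) : P12) 0 → y ≠ 0 → y ≠ ((vA i : A12) : P12) 0 →
          ((vA i : A12) : P12) x = y := by decide +kernel
      by_cases hb0 : b = 0
      · rw [hb0, hi]
      by_cases hbi : b = ((vA i : A12) : P12) 0
      · rw [hbi, sq_apply (v2 i), hi, sq_apply hz]
      refine (hpair i b ((z : P12) b) hb ((preserves4 hc b).2 hb) (hmv b hb).symm hb0 hbi (fun e => hbi ?_)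
        (fun e => hb0 ?_)).symm
      · rw [hi, ← e, sq_apply hz]
      · rw [hi] at e
        exact (z : P12).injective e
    · rw [hout b hb]
      exact (show ∀ (i : Fin 3) (b : Fin 12), ¬ b.val < 4 → b = ((vA i : A12) : P12) b by decide +kernel) i b hb
  · left
    push Not at h
    have hd : Equiv.Perm.Disjoint (z : P12) (u2A : P12) := fun j => by
      by_cases hj : j.val < 4
      · exact Or.inl (h j hj)
      · exact Or.inr (not_not.1 fun hne => hj ((u4_supp j).2.1 hne))
    rw [sc, Subgroup.coe_mul, hd.card_support_mul, ← sc, ← sc, h4, sc_vals.2.2.1]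

/-- Commuting with a fixed point free partner leaves no mixed involution. -/
theorem four_types_partner {z w : A12} (hz : z * z = 1) (h4 : sc z = 4) (hc : z * u2A = u2A * z)
    (hw : z * w = w * z) (hwu : w * u2A = u2A * w) (hw12 : sc w = 12) (hzw : sc (z * w) = 12) :
    sc (z * u2A) = 8 ∨ ∃ i, z = vA i := by
  refine four_types hz h4 hc fun a b ha hb hza hzb => ?_
  have hall : ∀ σ : A12, sc σ = 12 → ∀ j, (σ : P12) j ≠ j := fun σ hσ j =>
    Equiv.Perm.mem_support.1 ((Finset.eq_univ_of_card _ (hσ.trans (Fintype.card_fin 12).symm)).symm ▸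
      Finset.mem_univ j)
  set c := (w : P12) a with hcdef
  have hca : c ≠ a := hall w hw12 a
  have hc4 : c.val < 4 := (preserves4 hwu a).2 ha
  have hzc : (z : P12) c ≠ c := fun e => hza ((w : P12).injective (by rw [← comm_apply hw a]; exact e))
  have hcz : c ≠ (z : P12) a := fun e => hall (z * w) hzw a (by
    rw [Subgroup.coe_mul, Equiv.Perm.mul_apply, ← hcdef, e, sq_apply hz])
  have hza4 : ((z : P12) a).val < 4 := (preserves4 hc a).2 ha
  have hzb4 : ¬ ((z : P12) b).val < 4 := fun h' => hb ((preserves4 hc b).1 h')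
  have hsub : ({a, (z : P12) a, c, b, (z : P12) b} : Finset (Fin 12)) ⊆ (z : P12).support := by
    intro x hx
    refine Equiv.Perm.mem_support.2 ?_
    simp only [Finset.mem_insert, Finset.mem_singleton] at hx
    rcases hx with rfl | rfl | rfl | rfl | rfl
    · exact hza
    · exact fun e => hza ((z : P12).injective e)
    · exact hzc
    · exact hzb
    · exact fun e => hzb ((z : P12).injective e)
  have h5 : ({a, (z : P12) a, c, b, (z : P12) b} : Finset (Fin 12)).card = 5 := by
    have n1 : a ≠ b := fun e => hb (e ▸ ha)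
    have n2 : a ≠ (z : P12) b := fun e => hzb4 (e ▸ ha)
    have n3 : (z : P12) a ≠ b := fun e => hb (e ▸ hza4)
    have n4 : (z : P12) a ≠ (z : P12) b := fun e => n1 ((z : P12).injective e)
    have n5 : c ≠ b := fun e => hb (e ▸ hc4)
    have n6 : c ≠ (z : P12) b := fun e => hzb4 (e ▸ hc4)
    simp [hza.symm, hca.symm, hcz.symm, n1, n2, n3, n4, n5, n6, hzb.symm]
  have := Finset.card_le_card hsub
  rw [h5, ← sc, h4] at this
  omega

/-- Commuting with the block's four group leaves no mixed involution. -/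
theorem four_types_block {z : A12} (hz : z * z = 1) (h4 : sc z = 4)
    (hv : ∀ i, z * vA i = vA i * z) : sc (z * u2A) = 8 ∨ ∃ i, z = vA i := by
  obtain ⟨v2, vc, v4, vx, -, -, v0, vmove, -⟩ := block_facts
  have hc : z * u2A = u2A * z := v0 ▸ hv 0
  refine four_types hz h4 hc fun a b ha hb hza hzb => ?_
  have hall : ∀ j : Fin 12, j.val < 4 → (z : P12) j ≠ j := by
    intro j hj
    by_cases e : a = j
    · exact e ▸ hza
    obtain ⟨i, hi⟩ := v_apply a j ha hj e
    intro h'
    rw [← hi, comm_apply (hv i)] at h'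
    exact hza (((vA i : A12) : P12).injective h')
  have hsub : insert b ({0, 1, 2, 3} : Finset (Fin 12)) ⊆ (z : P12).support := by
    intro x hx
    simp only [Finset.mem_insert, Finset.mem_singleton] at hx
    rcases hx with rfl | rfl | rfl | rfl | rfl
    · exact Equiv.Perm.mem_support.2 hzb
    all_goals exact Equiv.Perm.mem_support.2 (hall _ (by decide))
  have hnb : b ∉ ({0, 1, 2, 3} : Finset (Fin 12)) := by
    intro hmem
    simp only [Finset.mem_insert, Finset.mem_singleton] at hmem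
    rcases hmem with rfl | rfl | rfl | rfl <;> exact hb (by decide)
  have := Finset.card_le_card hsub
  rw [Finset.card_insert_of_notMem hnb, ← sc, h4] at this
  exact absurd this (by decide)

end Cfsg.Agent.AltTwelve.Alt
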