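import Mathlib
import Cfsg.Agent.Lib.Coprime.Generation
import Cfsg.Agent.S3278

/-!
# A four group equal to its centralizers

A finite group with a four group that is the centralizer of each of its involutions, cycled by an element `c`,
is that group extended by `c`, or has order sixty.
-/

set_option autoImplicit false
set_option linter.style.haveILetI false
set_option linter.unusedSectionVars false

namespace Cfsg.Agent.AltTwelve.Alt

universe u

variable {X : Type u} [Group X]

/-- The setting. -/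
structure FourCent (d : Fin 3 → X) (c : X) : Prop where
  sq : ∀ i, d i * d i = 1
  ne_one : ∀ i, d i ≠ 1
  inj : ∀ i j, d i = d j → i = j
  mul : ∀ i j, i ≠ j → ∃ k, d i * d j = d k
  cent : ∀ x, Commute x (d 0) → x = 1 ∨ ∃ i, x = d i
  orbit : ∀ i, ∃ n : ℕ, c ^ n * d 0 * (c ^ n)⁻¹ = d i
  norm : ∀ i, ∃ j, c * d i * c⁻¹ = d j

/-- A subgroup normalises the image of its normal subgroups. -/
theorem le_normalizer_map {M : Subgroup X} (K : Subgroup M) (hK : K.Normal) :
    M ≤ Subgroup.normalizer ((K.map M.subtype : Subgroup X) : Set X) := by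
  intro x hx
  refine Subgroup.mem_normalizer_iff.2 fun y => ?_
  constructor
  · intro hy
    obtain ⟨k, hk, rfl⟩ := Subgroup.mem_map.1 hy
    exact Subgroup.mem_map.2 ⟨⟨x, hx⟩ * k * ⟨x, hx⟩⁻¹, hK.conj_mem k hk _, by simp⟩
  · intro hy
    obtain ⟨k, hk, e⟩ := Subgroup.mem_map.1 hy
    refine Subgroup.mem_map.2 ⟨⟨x, hx⟩⁻¹ * k * ⟨x, hx⟩⁻¹⁻¹, hK.conj_mem k hk _, ?_⟩
    simp only [map_mul, map_inv, e, inv_inv]
    simp [mul_assoc]

namespace FourCent

variable {d : Fin 3 → X} {c : X} (F : FourCent d c)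
include F

/-- The four group. -/
def four : Subgroup X where
  carrier := {x | x = 1 ∨ ∃ i, x = d i}
  one_mem' := Or.inl rfl
  mul_mem' := by
    rintro x y (rfl | ⟨i, rfl⟩) (rfl | ⟨j, rfl⟩)
    · exact Or.inl (mul_one 1)
    · exact Or.inr ⟨j, one_mul _⟩
    · exact Or.inr ⟨i, mul_one _⟩
    · by_cases h : i = j
      · exact Or.inl (by rw [h, F.sq])
      · exact Or.inr (F.mul i j h)
  inv_mem' := by
    rintro x (rfl | ⟨i, rfl⟩)
    · exact Or.inl inv_one
    · exact Or.inr ⟨i, inv_eq_of_mul_eq_one_left (F.sq i)⟩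

theorem mem_four {x : X} : x ∈ F.four ↔ x = 1 ∨ ∃ i, x = d i := Iff.rfl

theorem four_sq {x : X} (hx : x ∈ F.four) : x * x = 1 := by
  rcases hx with rfl | ⟨i, rfl⟩
  exacts [mul_one 1, F.sq i]

theorem four_comm {x y : X} (hx : x ∈ F.four) (hy : y ∈ F.four) : Commute x y := by
  have h := F.four_sq (mul_mem hx hy)
  rw [Commute, SemiconjBy]
  calc x * y = x * (x * y * (x * y)) * y := by rw [h, mul_one]
    _ = x * x * (y * x) * (y * y) := by group
    _ = y * x := by rw [F.four_sq hx, F.four_sq hy, one_mul, mul_one]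

theorem conj_four {x : X} (hx : x ∈ F.four) : c * x * c⁻¹ ∈ F.four := by
  rcases hx with rfl | ⟨i, rfl⟩
  · rw [mul_one, mul_inv_cancel]
    exact one_mem _
  · exact Or.inr (F.norm i)

theorem conj_pow_four (n : ℕ) {x : X} (hx : x ∈ F.four) : c ^ n * x * (c ^ n)⁻¹ ∈ F.four := by
  induction n with
  | zero => rwa [pow_zero, one_mul, inv_one, mul_one]
  | succ n ih =>
    rw [pow_succ', mul_inv_rev, show c * c ^ n * x * ((c ^ n)⁻¹ * c⁻¹) = c * (c ^ n * x * (c ^ n)⁻¹) * c⁻¹ by
      group]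
    exact F.conj_four ih

/-- The four group is the centralizer of each of its involutions. -/
theorem cent_all {i : Fin 3} {x : X} (h : Commute x (d i)) : x ∈ F.four := by
  obtain ⟨n, hn⟩ := F.orbit i
  have h0 : (c ^ n)⁻¹ * x * c ^ n ∈ F.four := by
    refine F.cent _ ?_
    have := h.map (MulAut.conj (c ^ n)⁻¹).toMonoidHom
    simp only [MulEquiv.coe_toMonoidHom, MulAut.conj_apply, inv_inv] at this
    rwa [show (c ^ n)⁻¹ * d i * c ^ n = d 0 by rw [← hn]; group] at this
  have := F.conj_pow_four n h0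
  rwa [show c ^ n * ((c ^ n)⁻¹ * x * c ^ n) * (c ^ n)⁻¹ = x by group] at this

theorem card_four : Nat.card F.four = 4 := by
  have hm : ∀ o : Option (Fin 3), o.elim 1 d ∈ F.four := fun o => by
    cases o with
    | none => exact one_mem _
    | some i => exact Or.inr ⟨i, rfl⟩
  let e : Option (Fin 3) → F.four := fun o => ⟨o.elim 1 d, hm o⟩
  have hb : Function.Bijective e := by
    refine ⟨?_, ?_⟩
    · intro o o' h
      have h' := congrArg Subtype.val h
      rcases o with _ | i <;> rcases o' with _ | j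
      · rfl
      · exact absurd h'.symm (F.ne_one j)
      · exact absurd h' (F.ne_one i)
      · exact congrArg some (F.inj i j h')
    · rintro ⟨x, rfl | ⟨i, rfl⟩⟩
      exacts [⟨none, rfl⟩, ⟨some i, rfl⟩]
  rw [← Nat.card_eq_of_bijective e hb, Nat.card_eq_fintype_card]
  rfl

theorem klein : IsKleinFour F.four := by
  refine ⟨F.card_four, ((Nat.dvd_prime Nat.prime_two).1 (Monoid.exponent_dvd_of_forall_pow_eq_one
    fun x => Subtype.ext ?_)).resolve_left fun h => F.ne_one 0 ?_⟩
  · rw [SubmonoidClass.coe_pow, pow_two]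
    exact F.four_sq x.2
  · haveI := Monoid.exp_eq_one_iff.1 h
    exact congrArg Subtype.val (Subsingleton.elim (⟨d 0, Or.inr ⟨0, rfl⟩⟩ : F.four) 1)

variable [Finite X]

/-- An odd subgroup normalised by the four group is trivial. -/
theorem odd_eq_bot {O : Subgroup X} (hO : Odd (Nat.card O))
    (hn : F.four ≤ Subgroup.normalizer (O : Set X)) : O = ⊥ := by
  haveI : IsMulCommutative F.four :=
    IsMulCommutative.of_comm fun a b => Subtype.ext (F.four_comm a.2 b.2).eq
  have hcop : (Nat.card F.four).Coprime (Nat.card O) := by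
    rw [F.card_four, show (4 : ℕ) = 2 ^ 2 from rfl]
    exact Nat.Coprime.pow_left _ (Nat.coprime_two_left.2 hO)
  have hnc : ¬ IsCyclic F.four := by
    intro hc
    obtain ⟨g, hg⟩ := IsCyclic.exists_ofOrder_eq_natCard (α := F.four)
    have : orderOf g ∣ 2 := orderOf_dvd_of_pow_eq_one (Subtype.ext (by simpa [pow_two] using F.four_sq g.2))
    rw [hg, F.card_four] at this
    exact absurd this (by norm_num)
  rw [eq_bot_iff, ← Coprime.fixedGen_eq hnc hn hcop]
  refine iSup₂_le fun a ha x hx => ?_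
  obtain ⟨haV, ha1⟩ := ha
  obtain ⟨i, rfl⟩ := (F.mem_four.1 haV).resolve_left ha1
  have hxV : x ∈ F.four := F.cent_all (Subgroup.mem_centralizer_singleton_iff.1 hx.2)
  have h2 : orderOf (⟨x, hx.1⟩ : O) ∣ 2 :=
    orderOf_dvd_of_pow_eq_one (Subtype.ext (by simpa [pow_two] using F.four_sq hxV))
  have h1 : orderOf (⟨x, hx.1⟩ : O) = 1 := by
    refine Nat.dvd_one.1 ?_
    have := Nat.dvd_gcd h2 (orderOf_dvd_natCard (⟨x, hx.1⟩ : O))
    rwa [(Nat.coprime_two_left.2 hO).gcd_eq_one] at this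
  exact Subgroup.mem_bot.2 (congrArg Subtype.val (orderOf_eq_one_iff.1 h1))

/-- The four group is a Sylow subgroup. -/
theorem exists_sylow : ∃ P : Sylow 2 X, (P : Subgroup X) = F.four := by
  haveI : Fact (Nat.Prime 2) := ⟨Nat.prime_two⟩
  have hp : IsPGroup 2 F.four := fun x => ⟨1, Subtype.ext (by simpa [pow_two] using F.four_sq x.2)⟩
  obtain ⟨P, hP⟩ := hp.exists_le_sylow
  refine ⟨P, le_antisymm ?_ hP⟩
  haveI : Nontrivial (P : Subgroup X) :=
    ⟨⟨⟨d 0, hP (Or.inr ⟨0, rfl⟩)⟩, 1, fun h => F.ne_one 0 (congrArg Subtype.val h)⟩⟩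
  haveI := P.2.center_nontrivial
  obtain ⟨⟨z, hz⟩, hz1⟩ := exists_ne (1 : Subgroup.center (P : Subgroup X))
  have hzc : ∀ y ∈ (P : Subgroup X), Commute (z : X) y := fun y hy =>
    congrArg Subtype.val ((Subgroup.mem_center_iff.1 hz ⟨y, hy⟩).symm)
  have hzV : (z : X) ∈ F.four := F.cent_all (hzc _ (hP (Or.inr ⟨0, rfl⟩)))
  obtain ⟨i, hi⟩ := (F.mem_four.1 hzV).resolve_left fun h => hz1 (Subtype.ext (Subtype.ext h))
  exact fun y hy => F.cent_all (hi ▸ (hzc y hy).symm)

/-- All involutions are conjugate. -/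
theorem exists_conj_invol {t : X} (ht : t * t = 1) (ht1 : t ≠ 1) : ∃ g, g * d 0 * g⁻¹ = t := by
  haveI : Fact (Nat.Prime 2) := ⟨Nat.prime_two⟩
  obtain ⟨P, hP⟩ := F.exists_sylow
  have hp : IsPGroup 2 (Subgroup.zpowers t) := by
    refine IsPGroup.of_card (n := 1) ?_
    rw [Nat.card_zpowers, pow_one]
    exact orderOf_eq_prime (by rw [pow_two]; exact ht) ht1
  obtain ⟨Q, hQ⟩ := hp.exists_le_sylow
  obtain ⟨g, hg⟩ := MulAction.exists_smul_eq X P Q
  have htQ : t ∈ (Q : Subgroup X) := hQ (Subgroup.mem_zpowers t)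
  rw [← hg, Sylow.coe_subgroup_smul, Subgroup.mem_pointwise_smul_iff_inv_smul_mem, hP] at htQ
  simp only [← map_inv, MulAut.smul_def, MulAut.conj_apply, inv_inv] at htQ
  obtain ⟨i, hi⟩ := (F.mem_four.1 htQ).resolve_left fun h => ht1 (by
    calc t = g * (g⁻¹ * t * g) * g⁻¹ := by group
      _ = 1 := by rw [h, mul_one, mul_inv_cancel])
  obtain ⟨n, hn⟩ := F.orbit i
  refine ⟨g * c ^ n, ?_⟩
  rw [show g * c ^ n * d 0 * (g * c ^ n)⁻¹ = g * (c ^ n * d 0 * (c ^ n)⁻¹) * g⁻¹ by group, hn, ← hi]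
  group

theorem normalizer_four {x : X} (hx : x ∈ Subgroup.normalizer (F.four : Set X)) :
    ∃ (n : ℕ) (v : X), v ∈ F.four ∧ x = c ^ n * v := by
  have h : x * d 0 * x⁻¹ ∈ F.four := (Subgroup.mem_normalizer_iff.1 hx _).1 (Or.inr ⟨0, rfl⟩)
  obtain ⟨i, hi⟩ := (F.mem_four.1 h).resolve_left fun h1 => F.ne_one 0 (conj_eq_one_iff.1 h1)
  obtain ⟨n, hn⟩ := F.orbit i
  refine ⟨n, (c ^ n)⁻¹ * x, F.cent _ ?_, by rw [mul_inv_cancel_left]⟩
  rw [Commute, SemiconjBy, ← mul_inv_eq_iff_eq_mul, show (c ^ n)⁻¹ * x * d 0 * ((c ^ n)⁻¹ * x)⁻¹ =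
    (c ^ n)⁻¹ * (x * d 0 * x⁻¹) * c ^ n by group, hi, ← hn]
  group

set_option maxHeartbeats 800000 in
/-- A normal subgroup containing the four group contains the cycling element. -/
theorem cycle_mem (hc3 : c ^ 3 = 1) {M : Subgroup X} (hM : M.Normal) (hVM : F.four ≤ M)
    (hN : ¬ F.four.Normal) : c ∈ M := by
  haveI : Fact (Nat.Prime 2) := ⟨Nat.prime_two⟩
  by_contra hc
  obtain ⟨P, hP⟩ := F.exists_sylow
  let Q : Sylow 2 M := P.subtype (by rw [hP]; exact hVM)
  have hQ : Subgroup.normalizer ((Q : Subgroup M) : Set M) ≤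
      Subgroup.centralizer ((Q : Subgroup M) : Set M) := by
    intro x hx
    have hxn : (x : X) ∈ Subgroup.normalizer (F.four : Set X) := by
      refine Subgroup.mem_normalizer_iff.2 fun y => ?_
      rw [← hP]
      constructor
      · intro hy
        exact (Subgroup.mem_normalizer_iff.1 hx ⟨y, (hP.le.trans hVM) hy⟩).1 hy
      · intro hy
        have hy' : y ∈ M := by
          have := mul_mem (mul_mem (inv_mem x.2) ((hP.le.trans hVM) hy)) x.2
          rwa [show (x : X)⁻¹ * ((x : X) * y * (x : X)⁻¹) * x = y by group] at this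
        exact (Subgroup.mem_normalizer_iff.1 hx ⟨y, hy'⟩).2 hy
    obtain ⟨n, v, hv, e⟩ := F.normalizer_four hxn
    have hcn : c ^ n ∈ M := by
      have := mul_mem x.2 (inv_mem (hVM hv))
      rwa [e, mul_inv_cancel_right] at this
    have hn1 : c ^ n = 1 := by
      rw [← pow_mod_orderOf]
      rcases (Nat.dvd_prime Nat.prime_three).1 (orderOf_dvd_of_pow_eq_one hc3) with h | h
      · rw [orderOf_eq_one_iff.1 h, one_pow]
      · rcases (show n % orderOf c = 0 ∨ n % orderOf c = 1 ∨ n % orderOf c = 2 by rw [h]; omega) with e' | e' | e'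
        · rw [e', pow_zero]
        · rw [← pow_mod_orderOf, e', pow_one] at hcn
          exact absurd hcn hc
        · rw [← pow_mod_orderOf, e'] at hcn
          refine absurd ?_ hc
          have := mul_mem hcn hcn
          rwa [← pow_add, show 2 + 2 = 3 + 1 from rfl, pow_succ, hc3, one_mul] at this
    rw [hn1, one_mul] at e
    refine Subgroup.mem_centralizer_iff.2 fun y hy => Subtype.ext ?_
    have hy' : (y : X) ∈ F.four := hP ▸ hy
    exact (F.four_comm hy' (e ▸ hv)).eq
  have hcomp := MonoidHom.ker_transferSylow_isComplement' Q hQ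
  have hodd := MonoidHom.not_dvd_card_ker_transferSylow Q hQ
  set K := (MonoidHom.transferSylow Q hQ).ker with hKdef
  have hKbot : K.map M.subtype = ⊥ := by
    refine F.odd_eq_bot ?_ ?_
    · rw [Subgroup.card_subtype]
      exact Nat.odd_iff.2 (by omega)
    · exact hVM.trans (le_normalizer_map K (MonoidHom.normal_ker _))
  refine hN ?_
  have hMV : M = F.four := by
    refine le_antisymm ?_ hVM
    have hKc : Nat.card K = 1 := by
      rw [← Subgroup.card_subtype, hKbot, Subgroup.card_bot]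
    have hQc : Nat.card (Q : Subgroup M) = 4 := by
      rw [← Subgroup.card_subtype, show (Q : Subgroup M) = (P : Subgroup X).subgroupOf M from rfl,
        Subgroup.map_subgroupOf_eq_of_le (hP.le.trans hVM), hP, F.card_four]
    have hc := hcomp.card_mul_card
    rw [hKc, hQc, one_mul] at hc
    exact (Subgroup.eq_of_le_of_card_ge hVM (by rw [← hc, F.card_four])).ge
  exact hMV ▸ hM

/-- The four group extended, or a group of order sixty. -/
theorem small_or_sixty (hc3 : c ^ 3 = 1) :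
    (∀ x : X, ∃ (n : ℕ) (v : X), v ∈ F.four ∧ x = c ^ n * v) ∨ Nat.card X = 60 := by
  haveI : Fact (Nat.Prime 2) := ⟨Nat.prime_two⟩
  by_cases hN : F.four.Normal
  · exact Or.inl fun x => F.normalizer_four (by rw [Subgroup.normalizer_eq_top]; exact Subgroup.mem_top x)
  right
  have hsimple : ∀ M : Subgroup X, M.Normal → M = ⊥ ∨ M = ⊤ := by
    intro M hM
    by_cases hb : M = ⊥
    · exact Or.inl hb
    right
    have heven : Even (Nat.card M) := by
      by_contra ho
      exact hb (F.odd_eq_bot (Nat.not_even_iff_odd.1 ho)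
        (fun x _ => Subgroup.le_normalizer_of_normal (Subgroup.mem_top x)))
    obtain ⟨⟨t, htM⟩, ht⟩ := exists_prime_orderOf_dvd_card' (G := M) 2 heven.two_dvd
    obtain ⟨g, hg⟩ := F.exists_conj_invol (t := t)
      (by have := pow_orderOf_eq_one (⟨t, htM⟩ : M); rw [ht, pow_two] at this; exact congrArg Subtype.val this)
      (fun h => by
        rw [show (⟨t, htM⟩ : M) = 1 from Subtype.ext h, orderOf_one] at ht
        omega)
    have hd0 : d 0 ∈ M := by
      have := hM.conj_mem t htM g⁻¹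
      rwa [← hg, inv_inv, show g⁻¹ * (g * d 0 * g⁻¹) * g = d 0 by group] at this
    have hdM : ∀ i, d i ∈ M := fun i => by
      obtain ⟨n, hn⟩ := F.orbit i
      exact hn ▸ hM.conj_mem _ hd0 _
    have hVM : F.four ≤ M := by
      rintro x (rfl | ⟨i, rfl⟩)
      exacts [one_mem _, hdM i]
    have hcM : c ∈ M := F.cycle_mem hc3 hM hVM hN
    rw [eq_top_iff]
    intro x _
    obtain ⟨P, hP⟩ := F.exists_sylow
    let Q : Sylow 2 M := P.subtype (by rw [hP]; exact hVM)
    haveI := hM
    have hfr := Sylow.normalizer_sup_eq_top Q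
    have hmap : (Q : Subgroup M).map M.subtype = F.four := by
      rw [← hP]
      exact Subgroup.map_subgroupOf_eq_of_le (hP.le.trans hVM)
    rw [hmap] at hfr
    have hle : Subgroup.normalizer (F.four : Set X) ⊔ M ≤ M := sup_le (fun y hy => by
      obtain ⟨n, v, hv, rfl⟩ := F.normalizer_four hy
      exact mul_mem (pow_mem hcM n) (hVM hv)) le_rfl
    exact hle (hfr ▸ Subgroup.mem_top x)
  haveI : Nontrivial X := ⟨⟨d 0, 1, F.ne_one 0⟩⟩
  haveI : IsSimpleGroup X := ⟨hsimple⟩
  have hcentEq : Subgroup.centralizer ({d 0} : Set X) = F.four := by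
    refine le_antisymm (fun x hx => F.cent _ (Subgroup.mem_centralizer_singleton_iff.1 hx)) fun x hx => ?_
    exact Subgroup.mem_centralizer_singleton_iff.2 (F.four_comm hx (Or.inr ⟨0, rfl⟩)).eq
  obtain ⟨e⟩ := S3278.result (d 0) (orderOf_eq_prime (by rw [pow_two]; exact F.sq 0) (F.ne_one 0))
    F.four hcentEq.ge F.klein (by rw [hcentEq, Subgroup.relIndex_self]; decide)
    (by rw [hcentEq, Subgroup.subgroupOf_self]; infer_instance)
  rw [Nat.card_congr e.toEquiv, nat_card_alternatingGroup, Nat.card_fin]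
  rfl

end FourCent

end Cfsg.Agent.AltTwelve.Alt
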