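import Cfsg.Agent.Lib.AltTwelve.Sp.Model

/-!
# The alternating group of degree twelve: the facts for the branches `A₁₂` and `A₁₃`

The standard involutions are `α` (six transpositions), `u₄ = (01)(23)(45)(67)` with the four group `V` on the
remaining block, and `u₂ = (01)(23)`, `x = (45)(67)` with `u₂ x = u₄`.
-/

set_option autoImplicit false
set_option maxRecDepth 100000

namespace Cfsg.Agent.AltTwelve.Alt

open Equiv Equiv.Perm
open Cfsg.Agent.AltTwelve.Sp (al)

/-- The permutations of the twelve points. -/
abbrev P12 : Type := Equiv.Perm (Fin 12)

/-- The alternating group. -/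
abbrev A12 : Type := ↥(alternatingGroup (Fin 12))

/-- Four transpositions. -/
def u4P : P12 := swap 0 1 * swap 2 3 * swap 4 5 * swap 6 7

/-- Two transpositions. -/
def u2P : P12 := swap 0 1 * swap 2 3

/-- The other half. -/
def xP : P12 := swap 4 5 * swap 6 7

/-- The four group outside, by the image of the point `8`. -/
def dP : Fin 3 → P12 := ![swap 8 9 * swap 10 11, swap 8 10 * swap 9 11, swap 8 11 * swap 9 10]

/-- The three cycle on the points outside. -/
def cP : P12 := swap 8 9 * swap 9 10

/-- An element swapping two of the points outside. -/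
def sP : P12 := swap 0 1 * swap 8 9

/-- Involutions inside the eight points commuting with `u₄`. -/
def kP : Fin 5 → P12 :=
  ![swap 0 2 * swap 1 3, swap 2 4 * swap 3 5, swap 4 6 * swap 5 7, swap 0 1 * swap 2 3, swap 0 3 * swap 1 2]

/-- An involution inside the eight points of the conjugate octad. -/
def k8P : P12 := swap 0 8 * swap 1 9

/-- An element moving `u₄` to a second octad. -/
def mP : P12 := swap 6 8 * swap 7 9

/-- The generators of the stabilizer of the last point. -/
def genP : Fin 6 → P12 := ![cP, kP 0, kP 1, kP 2, k8P, kP 3]

/-- The first point of a three cycle of the table. -/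
def tA : ℕ := 5406064941175631137166535413745330577459202384643328134845337913762108847020995914296713702011036809579650837215353537045146731915780104

/-- The second point. -/
def tB : ℕ := 6226787017277369984451950145917196177185091689771620425747764810163491614209171030234139730835413248314555732953976772995873322376509465

/-- The third point. -/
def tC : ℕ := 6926167424831398359874661379766055019089141128683641714413714638496769993886162454238745202428010464069345969310722791949053100046789034

/-- The kind of the derivation. -/
def tK : ℕ := 65153204445614046170445286460297440794623021649887261493061174864228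

/-- The conjugating element. -/
def tJ : ℕ := 285290267364492253195800448499514458833234136530146076524937724719995634872627047625155185680851268260138595953544176775515148216225062770132872159557397751845546381133899312752716631917238032660441264942356452585349682717048007756545860554624613765677126307480217584559046165639248364582336732611138029056

/-- The conjugated cycle. -/
def tI : ℕ := 217125869919580576347866862343998244568127559767461146840077411259456830377888139154120491683395872485638608112860866000598589494606308723883312332064939290113797457117511188905434070039090481264072014980364299301255970896944352584316292837002986592251377245650502132504223664261013746955254884723094192128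

/-- An entry of a packed table. -/
def entry (t w n : ℕ) : ℕ := (t >>> (w * n)) % 2 ^ w

/-- A three cycle of the table. -/
def cyc (n : ℕ) : P12 :=
  swap (Fin.ofNat 12 (entry tA 4 n)) (Fin.ofNat 12 (entry tB 4 n)) *
    swap (Fin.ofNat 12 (entry tB 4 n)) (Fin.ofNat 12 (entry tC 4 n))

/-- The size of the table. -/
def tLen : ℕ := 113

theorem tab_ok : (List.range tLen).all (fun n =>
    if entry tK 2 n = 0 then decide (cyc n = genP 0)
    else if entry tK 2 n = 1 then
      decide (entry tI 9 n < n ∧ entry tJ 9 n < 5 ∧
        cyc n = genP (Fin.ofNat 6 (entry tJ 9 n + 1)) * cyc (entry tI 9 n) * (genP (Fin.ofNat 6 (entry tJ 9 n + 1)))⁻¹)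
    else decide (entry tI 9 n < n ∧ entry tJ 9 n < n ∧
        cyc n = cyc (entry tJ 9 n) * cyc (entry tI 9 n) * (cyc (entry tJ 9 n))⁻¹)) = true := by
  decide +kernel

theorem cyc_strip : ∀ k : Fin 12, k.val < 9 → ∀ a : Fin 12, k.val < a.val → a.val < 11 →
    ∃ n : Fin tLen, cyc n a = k ∧ cyc n 11 = 11 ∧ ∀ i : Fin 12, i.val < k.val → cyc n i = i := by
  decide +kernel

theorem facts_sign : Equiv.Perm.sign al = 1 ∧ Equiv.Perm.sign u4P = 1 ∧ Equiv.Perm.sign u2P = 1 ∧
    Equiv.Perm.sign xP = 1 ∧ (∀ i, Equiv.Perm.sign (dP i) = 1) ∧ Equiv.Perm.sign cP = 1 ∧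
    Equiv.Perm.sign sP = 1 ∧ (∀ i, Equiv.Perm.sign (kP i) = 1) ∧ Equiv.Perm.sign k8P = 1 ∧
    Equiv.Perm.sign mP = 1 := by
  decide +kernel

/-- The subgroup generated by the six elements. -/
def stabGen : Subgroup P12 := Subgroup.closure (Set.range genP)

theorem cyc_mem : ∀ n, n < tLen → cyc n ∈ stabGen := by
  intro n
  induction n using Nat.strong_induction_on with
  | h n ih =>
    intro hn
    have h := List.all_eq_true.1 tab_ok n (List.mem_range.2 hn)
    split_ifs at h with h0 h1
    · rw [decide_eq_true_eq] at h
      rw [h]
      exact Subgroup.subset_closure ⟨0, rfl⟩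
    · rw [decide_eq_true_eq] at h
      obtain ⟨hi, -, e⟩ := h
      rw [e]
      exact mul_mem (mul_mem (Subgroup.subset_closure ⟨_, rfl⟩) (ih _ hi (hi.trans hn)))
        (inv_mem (Subgroup.subset_closure ⟨_, rfl⟩))
    · rw [decide_eq_true_eq] at h
      obtain ⟨hi, hj, e⟩ := h
      rw [e]
      exact mul_mem (mul_mem (ih _ hj (hj.trans hn)) (ih _ hi (hi.trans hn))) (inv_mem (ih _ hj (hj.trans hn)))

/-- The even permutations fixing the last point are generated by the six elements. -/
theorem stab_eq {σ : P12} (hs : Equiv.Perm.sign σ = 1) (h11 : σ 11 = 11) : σ ∈ stabGen := by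
  suffices key : ∀ j : ℕ, j ≤ 9 → ∀ τ : P12, Equiv.Perm.sign τ = 1 → τ 11 = 11 →
      (∀ i : Fin 12, i.val < 9 - j → τ i = i) → τ ∈ stabGen by
    exact key 9 le_rfl σ hs h11 fun i hi => absurd hi (by omega)
  intro j
  induction j with
  | zero =>
    intro _ τ hτ h11 hfix
    have h9 : τ 9 = 9 ∨ τ 9 = 10 := by
      have hlt : ¬ (τ 9).val < 9 := fun h => by
        have := τ.injective (hfix _ h)
        rw [this] at h
        exact absurd h (by decide)
      have h11' : τ 9 ≠ 11 := fun h => absurd (τ.injective (h.trans h11.symm)) (by decide)
      have h1 : (τ 9).val ≠ 11 := fun h => h11' (Fin.ext h)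
      have := (τ 9).isLt
      rcases (show (τ 9).val = 9 ∨ (τ 9).val = 10 by omega) with h | h
      exacts [Or.inl (Fin.ext h), Or.inr (Fin.ext h)]
    have h10 : ∀ b : Fin 12, τ 9 = b → τ 10 ≠ b := fun b h h' => absurd (τ.injective (h.trans h'.symm)) (by decide)
    have h10' : τ 10 = 9 ∨ τ 10 = 10 := by
      have hlt : ¬ (τ 10).val < 9 := fun h => by
        have := τ.injective (hfix _ h)
        rw [this] at h
        exact absurd h (by decide)
      have h11' : τ 10 ≠ 11 := fun h => absurd (τ.injective (h.trans h11.symm)) (by decide)
      have h1 : (τ 10).val ≠ 11 := fun h => h11' (Fin.ext h)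
      have := (τ 10).isLt
      rcases (show (τ 10).val = 9 ∨ (τ 10).val = 10 by omega) with h | h
      exacts [Or.inl (Fin.ext h), Or.inr (Fin.ext h)]
    rcases h9 with h9 | h9
    · have : τ = 1 := by
        refine Equiv.ext fun i => ?_
        by_cases hi : i.val < 9
        · exact hfix i hi
        rcases (show i.val = 9 ∨ i.val = 10 ∨ i.val = 11 by omega) with h | h | h
        · rw [show i = 9 from Fin.ext h]; exact h9
        · rw [show i = 10 from Fin.ext h]
          rcases h10' with e | e
          exacts [absurd e (h10 _ h9), e]
        · rw [show i = 11 from Fin.ext h]; exact h11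
      rw [this]
      exact one_mem _
    · exfalso
      have : τ = Equiv.swap 9 10 := by
        refine Equiv.ext fun i => ?_
        by_cases hi : i.val < 9
        · rw [hfix i hi, Equiv.swap_apply_of_ne_of_ne]
          · exact fun e => by rw [e] at hi; exact absurd hi (by decide)
          · exact fun e => by rw [e] at hi; exact absurd hi (by decide)
        rcases (show i.val = 9 ∨ i.val = 10 ∨ i.val = 11 by omega) with h | h | h
        · rw [show i = 9 from Fin.ext h, Equiv.swap_apply_left]; exact h9
        · rw [show i = 10 from Fin.ext h, Equiv.swap_apply_right]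
          rcases h10' with e | e
          exacts [e, absurd e (h10 _ h9)]
        · rw [show i = 11 from Fin.ext h, h11]
          rfl
      rw [this, Equiv.Perm.sign_swap (by decide)] at hτ
      exact absurd hτ (by decide)
  | succ j ih =>
    intro hj τ hτ h11 hfix
    let k : Fin 12 := ⟨8 - j, by omega⟩
    by_cases hk : τ k = k
    · refine ih (by omega) τ hτ h11 fun i hi => ?_
      by_cases h : i.val < 9 - (j + 1)
      · exact hfix i h
      · rw [show i = k from Fin.ext (show i.val = 8 - j by omega)]; exact hk
    have hgt : k.val < (τ k).val := by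
      by_contra hle
      have hne : (τ k).val ≠ k.val := fun e => hk (Fin.ext e)
      have h1 := hfix (τ k) (show (τ k).val < 9 - (j + 1) by
        have : k.val = 8 - j := rfl
        omega)
      exact hk (τ.injective h1)
    have hlt : (τ k).val < 11 := by
      have hne : (τ k).val ≠ 11 := fun e => by
        have := τ.injective ((Fin.ext e : τ k = 11).trans h11.symm)
        have hv := congrArg Fin.val this
        simp only [k] at hv
        omega
      have := (τ k).isLt
      omega
    obtain ⟨n, hn1, hn2, hn3⟩ := cyc_strip k (show 8 - j < 9 by omega) (τ k) hgt hlt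
    have hmem := cyc_mem n n.isLt
    have hsg : Equiv.Perm.sign (cyc n * τ) = 1 := by
      have : Equiv.Perm.sign (cyc n) = 1 := by
        have hle : stabGen ≤ alternatingGroup (Fin 12) := by
          obtain ⟨-, -, -, -, -, s1, -, s2, s3, -⟩ := facts_sign
          refine (Subgroup.closure_le _).2 ?_
          rintro _ ⟨i, rfl⟩
          fin_cases i
          exacts [s1, s2 0, s2 1, s2 2, s3, s2 3]
        exact Equiv.Perm.mem_alternatingGroup.1 (hle hmem)
      rw [map_mul, this, hτ, one_mul]
    have h2 := ih (by omega) (cyc n * τ) hsg (by rw [Equiv.Perm.mul_apply, h11, hn2]) fun i hi => by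
      rw [Equiv.Perm.mul_apply]
      by_cases h : i.val < 9 - (j + 1)
      · rw [hfix i h, hn3 i (show i.val < 8 - j by omega)]
      · rw [show i = k from Fin.ext (show i.val = 8 - j by omega), hn1]
    have := mul_mem (inv_mem hmem) h2
    rwa [inv_mul_cancel_left] at this

end Cfsg.Agent.AltTwelve.Alt
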