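import Cfsg.Agent.Lib.AltTwelve.Alt.Facts
import Cfsg.Agent.Lib.SpThreeCent.SixEnd.Engine
import Cfsg.Agent.Lib.Coprime.Generation
import Cfsg.Agent.S3278

/-!
# The centralizer of an involution moving eight points

In the centralizer of `f u₄` the four group `V` on the points outside has all centralizers inside the image; its
conjugates commute with the inner involutions, and modulo `u₄` the centralizer of the inner involutions is `A₄` or,
by the theorem on four group Sylow subgroups, `A₅`. So `f u₄` fixes one or five cosets.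
-/

set_option autoImplicit false
set_option maxRecDepth 100000
set_option linter.unusedSectionVars false
set_option linter.style.haveILetI false

namespace Cfsg.Agent.AltTwelve.Alt

open Cfsg.Agent.SpThreeCent.SixEnd (dihedral_full)
open MulAction

universe u

variable {G : Type u} [Group G]

theorem commute_centralizer {g x : G} (h : g ∈ Subgroup.centralizer ({x} : Set G)) : Commute g x :=
  Subgroup.mem_centralizer_singleton_iff.1 h

/-- The hypothesis of the endgame. -/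
structure Hyp (f : A12 →* G) : Prop where
  inj : Function.Injective f
  /-- the centralizer of a fixed point free involution lies inside -/
  cent : ∀ g : G, Commute g (f alA) → g ∈ f.range
  /-- the three classes stay apart -/
  ne : ∀ σ τ : A12, σ * σ = 1 → τ * τ = 1 → IsConj (f σ) (f τ) → sc σ = sc τ

/-- A conjugate of the first element of the four group inside the centralizer of `u₄`. -/
def DD (f : A12 →* G) (e : G) : Prop :=
  ∃ h : G, Commute h (f u4A) ∧ h * f (dA 0) * h⁻¹ = e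

/-- The centralizer of `u₄` and the inner involutions. -/
def inner (f : A12 →* G) : Subgroup G :=
  Subgroup.centralizer ({f u4A} ∪ {x | ∃ k, IsK k ∧ x = f k})

variable {f : A12 →* G}

theorem mem_inner {g : G} :
    g ∈ inner f ↔ Commute g (f u4A) ∧ ∀ k, IsK k → Commute g (f k) := by
  rw [inner, Subgroup.mem_centralizer_iff]
  refine ⟨fun h => ⟨(h _ (Or.inl rfl)).symm, fun k hk => (h _ (Or.inr ⟨k, hk, rfl⟩)).symm⟩, fun h x hx => ?_⟩
  rcases hx with rfl | ⟨k, hk, rfl⟩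
  exacts [h.1.symm.eq, (h.2 k hk).symm.eq]

theorem four_conj : (∀ i, ∃ n : Fin 3, cA ^ n.val * dA 0 * (cA ^ n.val)⁻¹ = dA i) ∧
    cA * u4A = u4A * cA ∧ cA ^ 3 = 1 ∧ cA ≠ 1 ∧ (∀ i, dA i ≠ 1) ∧ (∀ i j, u4A * dA i ≠ dA j) ∧
    u4A ≠ 1 ∧ (∀ i, dA i ≠ u4A) ∧ (∀ i, cA ≠ dA i) ∧ (∀ i, cA ≠ u4A * dA i) ∧ cA ≠ u4A := by
  decide +kernel

namespace Hyp

variable (D : Hyp f)
include D

theorem cent12 {σ : A12} (hσ : σ * σ = 1) (h12 : sc σ = 12) {g : G} (hg : Commute g (f σ)) : g ∈ f.range := by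
  obtain ⟨π, hπ⟩ := exists_conj sq_vals.1 hσ (sc_vals.1.trans h12.symm)
  have h : Commute ((f π)⁻¹ * g * f π) (f alA) := by
    have := hg.map (MulAut.conj (f π)⁻¹).toMonoidHom
    simp only [MulEquiv.coe_toMonoidHom, MulAut.conj_apply, inv_inv] at this
    rwa [show (f π)⁻¹ * f σ * f π = f alA by rw [← hπ, map_mul, map_mul, map_inv]; group] at this
  have := mul_mem (mul_mem (⟨π, rfl⟩ : f π ∈ f.range) (D.cent _ h)) (inv_mem (⟨π, rfl⟩ : f π ∈ f.range))
  rwa [show f π * ((f π)⁻¹ * g * f π) * (f π)⁻¹ = g by group] at this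

theorem move12 {σ : A12} (hσ : σ * σ = 1) (h12 : sc σ = 12) {g : G} (hg : g * f σ * g⁻¹ ∈ f.range) :
    g ∈ f.range := by
  obtain ⟨τ, hτ⟩ := hg
  have hτ2 : τ * τ = 1 := D.inj (by
    rw [map_mul, map_one, hτ, show g * f σ * g⁻¹ * (g * f σ * g⁻¹) = g * (f σ * f σ) * g⁻¹ by group,
      ← map_mul, hσ, map_one, mul_one, mul_inv_cancel])
  obtain ⟨π, hπ⟩ := exists_conj hσ hτ2 (D.ne σ τ hσ hτ2 (isConj_iff.2 ⟨g, hτ.symm⟩))
  have h : Commute ((f π)⁻¹ * g) (f σ) := by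
    rw [Commute, SemiconjBy, ← mul_inv_eq_iff_eq_mul,
      show (f π)⁻¹ * g * f σ * ((f π)⁻¹ * g)⁻¹ = (f π)⁻¹ * (g * f σ * g⁻¹) * f π by group, ← hτ, ← hπ]
    simp only [map_mul, map_inv]
    group
  have := mul_mem (⟨π, rfl⟩ : f π ∈ f.range) (D.cent12 hσ h12 h)
  rwa [mul_inv_cancel_left] at this

theorem sq_four (i : Fin 3) : f (dA i) * f (dA i) = 1 := by rw [← map_mul, sq_vals.2.2.2.2.1, map_one]

theorem sq_u4d (i : Fin 3) : u4A * dA i * (u4A * dA i) = 1 := by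
  rw [show u4A * dA i * (u4A * dA i) = u4A * (dA i * u4A) * dA i by group, sq_vals.2.2.2.2.2.2.2.1 i,
    show u4A * (u4A * dA i) * dA i = u4A * u4A * (dA i * dA i) by group, sq_vals.2.1, sq_vals.2.2.2.2.1,
    one_mul]

theorem dd_four (i : Fin 3) : DD f (f (dA i)) := by
  obtain ⟨n, hn⟩ := four_conj.1 i
  refine ⟨f (cA ^ n.val), ?_, by rw [← map_inv, ← map_mul, ← map_mul, hn]⟩
  exact ((show Commute cA u4A from four_conj.2.1).pow_left n.val).map f

theorem dd_conj {e a : G} (h : DD f e) (ha : Commute a (f u4A)) : DD f (a * e * a⁻¹) := by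
  obtain ⟨k, hk, rfl⟩ := h
  exact ⟨a * k, ha.mul_left hk, by group⟩

theorem dd_sq {e : G} (h : DD f e) : e * e = 1 := by
  obtain ⟨k, -, rfl⟩ := h
  rw [show k * f (dA 0) * k⁻¹ * (k * f (dA 0) * k⁻¹) = k * (f (dA 0) * f (dA 0)) * k⁻¹ by group,
    D.sq_four, mul_one, mul_inv_cancel]

theorem dd_u4 {e : G} (h : DD f e) : Commute e (f u4A) := by
  obtain ⟨k, hk, rfl⟩ := h
  exact (hk.mul_left ((show Commute (dA 0) u4A from sq_vals.2.2.2.2.2.2.2.1 0).map f)).mul_left hk.inv_left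

theorem dd_range {σ : A12} (h : DD f (f σ)) : ∃ i, σ = dA i := by
  have hσ2 : σ * σ = 1 := D.inj (by rw [map_mul, map_one]; exact D.dd_sq h)
  have hσc : σ * u4A = u4A * σ := D.inj (by rw [map_mul, map_mul]; exact (D.dd_u4 h).eq)
  obtain ⟨k, hk, e⟩ := h
  refine mem_four hσ2 hσc ?_ ?_
  · rw [← D.ne (dA 0) σ (sq_vals.2.2.2.2.1 0) hσ2 (isConj_iff.2 ⟨k, e⟩), sc_vals.2.2.2.2.1]
  · rw [hσc, ← D.ne (u4A * dA 0) (u4A * σ) (D.sq_u4d 0) ?_ (isConj_iff.2 ⟨k, ?_⟩), sc_vals.2.2.2.2.2]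
    · rw [show u4A * σ * (u4A * σ) = u4A * (σ * u4A) * σ by group, hσc,
        show u4A * (u4A * σ) * σ = u4A * u4A * (σ * σ) by group, sq_vals.2.1, hσ2, one_mul]
    · rw [map_mul, map_mul, show k * (f u4A * f (dA 0)) * k⁻¹ = k * f u4A * k⁻¹ * (k * f (dA 0) * k⁻¹) by group,
        e, hk.eq, mul_inv_cancel_right]

theorem dd_mem {e : G} (h : DD f e) (hr : e ∈ f.range) : ∃ i, e = f (dA i) := by
  obtain ⟨σ, rfl⟩ := hr
  obtain ⟨i, rfl⟩ := D.dd_range h
  exact ⟨i, rfl⟩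

theorem cent_four {i : Fin 3} {g : G} (h4 : Commute g (f u4A)) (hd : Commute g (f (dA i))) : g ∈ f.range :=
  D.cent12 (D.sq_u4d i) (sc_vals.2.2.2.2.2 i) (by rw [map_mul]; exact h4.mul_right hd)

theorem move_four {i j : Fin 3} {g : G} (h4 : Commute g (f u4A)) (hd : g * f (dA i) * g⁻¹ = f (dA j)) :
    g ∈ f.range := by
  refine D.move12 (D.sq_u4d i) (sc_vals.2.2.2.2.2 i) ⟨u4A * dA j, ?_⟩
  rw [map_mul, map_mul, show g * (f u4A * f (dA i)) * g⁻¹ = g * f u4A * g⁻¹ * (g * f (dA i) * g⁻¹) by group,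
    hd, h4.eq, mul_inv_cancel_right]

theorem mem_of_comm_conj {h g : G} {i j : Fin 3} (hh : Commute h (f u4A)) (hg : Commute g (f u4A))
    (hr : h * f (dA i) * h⁻¹ = f (dA j)) (hc : Commute g (h * f (dA i) * h⁻¹)) : g ∈ f.range :=
  D.cent_four hg (hr ▸ hc)

theorem conj_of_outside [Finite G] {K : Subgroup G} (hK : ∀ a ∈ K, Commute a (f u4A)) {i : Fin 3} {e : G}
    (hi : f (dA i) ∈ K) (he : e ∈ K) (hdd : DD f e) (hout : e ∉ f.range) :
    ∃ a ∈ K, a * f (dA i) * a⁻¹ = e := by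
  rcases dihedral_full (D.sq_four i) (D.dd_sq hdd) with ⟨a, ha, h⟩ | ⟨z, hz, hz2, hz1, hzw, hzv, a, ha, hc⟩
  · exact ⟨a, (Subgroup.closure_le _).2 (by rintro x (rfl | rfl) <;> assumption) ha, h⟩
  exfalso
  have hcl : Subgroup.closure ({f (dA i), e} : Set G) ≤ K :=
    (Subgroup.closure_le _).2 (by rintro x (rfl | rfl) <;> assumption)
  have ha4 := hK a (hcl ha)
  have hz4 := hK z (hcl hz)
  obtain ⟨τ, rfl⟩ : z ∈ f.range := D.cent_four hz4 (show Commute z (f (dA i)) from hzw)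
  have hdd' : DD f (f (τ * dA i)) := by
    rw [map_mul]
    rcases hc with ⟨h1, -⟩ | ⟨h1, -⟩
    · exact h1 ▸ D.dd_conj (D.dd_four i) ha4
    · exact h1 ▸ D.dd_conj hdd ha4
  obtain ⟨j, hj⟩ := D.dd_range hdd'
  have hτ : τ = dA j * dA i := by rw [← hj, mul_assoc, sq_vals.2.2.2.2.1, mul_one]
  by_cases hji : j = i
  · exact hz1 (by rw [hτ, hji, sq_vals.2.2.2.2.1, map_one])
  obtain ⟨m, hm⟩ := sq_vals.2.2.2.2.2.2.2.2.2.1 j i hji
  exact hout (D.cent_four (D.dd_u4 hdd) (show Commute e (f (dA m)) from hm ▸ hτ ▸ hzv.symm))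

theorem no_mixed [Finite G] {k : A12} (hk : IsK k) (i : Fin 3) {e : G} (hdd : DD f e) (hout : e ∉ f.range)
    (hc : Commute e (f (k * dA i))) : False := by
  obtain ⟨h, hh, he⟩ := hdd
  have hk2 := (sc_mul_four hk i).2
  have hz2 : k * dA i * (k * dA i) = 1 := by
    rw [show k * dA i * (k * dA i) = k * (dA i * k) * dA i by group, ← hk2,
      show k * (k * dA i) * dA i = k * k * (dA i * dA i) by group, hk.2.1, sq_vals.2.2.2.2.1, one_mul]
  have hz4 : Commute (f (k * dA i)) (f u4A) :=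
    (show Commute (k * dA i) u4A from
      (show Commute k u4A from hk.1).mul_left (sq_vals.2.2.2.2.2.2.2.1 i)).map f
  set z' := h⁻¹ * f (k * dA i) * h with hz'
  have h4' : Commute z' (f u4A) := (hh.inv_left.mul_left hz4).mul_left hh
  have hd' : Commute z' (f (dA 0)) := by
    have := hc.symm.map (MulAut.conj h⁻¹).toMonoidHom
    simp only [MulEquiv.coe_toMonoidHom, MulAut.conj_apply, inv_inv, ← hz', ← he] at this
    rwa [show h⁻¹ * (h * f (dA 0) * h⁻¹) * h = f (dA 0) by group] at this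
  obtain ⟨ζ, hζ⟩ := D.cent_four h4' hd'
  have hζ4 : ζ * u4A = u4A * ζ := D.inj (by rw [map_mul, map_mul, hζ]; exact h4'.eq)
  have hζd : ζ * dA 0 = dA 0 * ζ := D.inj (by rw [map_mul, map_mul, hζ]; exact hd'.eq)
  have hζ2 : ζ * ζ = 1 := D.inj (by
    rw [map_mul, map_one, hζ, hz', show h⁻¹ * f (k * dA i) * h * (h⁻¹ * f (k * dA i) * h) =
      h⁻¹ * (f (k * dA i) * f (k * dA i)) * h by group, ← map_mul, hz2, map_one, mul_one, inv_mul_cancel])
  have hsc : sc ζ = sc k + 4 := by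
    rw [← D.ne (k * dA i) ζ hz2 hζ2 (isConj_iff.2 ⟨h⁻¹, by rw [hζ, hz', inv_inv]⟩), (sc_mul_four hk i).1]
  obtain ⟨j, hjc, hj⟩ := exists_other hζ4 hζd
  set e' := h * f (dA j) * h⁻¹ with he'
  have hdd' : DD f e' := D.dd_conj (D.dd_four j) hh
  have hc' : Commute e' (f (k * dA i)) := by
    have := (((show Commute ζ (dA j) from hjc).map f).symm).map (MulAut.conj h).toMonoidHom
    simp only [MulEquiv.coe_toMonoidHom, MulAut.conj_apply, hζ, ← he'] at this
    rwa [hz', show h * (h⁻¹ * f (k * dA i) * h) * h⁻¹ = f (k * dA i) by group] at this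
  have hout' : e' ∉ f.range := fun hr => by
    obtain ⟨m, hm⟩ := D.dd_mem hdd' hr
    refine hout (D.mem_of_comm_conj hh (D.dd_u4 ⟨h, hh, he⟩) hm ?_)
    rw [← he]
    simpa only [MulEquiv.coe_toMonoidHom, MulAut.conj_apply] using
      ((show Commute (dA 0) (dA j) from sq_vals.2.2.2.2.2.2.2.2.1 0 j).map f).map (MulAut.conj h).toMonoidHom
  set K := Subgroup.centralizer ({f u4A, f (k * dA i)} : Set G) with hK
  have hK' : ∀ {a : G}, a ∈ K ↔ Commute a (f u4A) ∧ Commute a (f (k * dA i)) := by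
    intro a
    rw [hK, Subgroup.mem_centralizer_iff]
    simp only [Set.mem_insert_iff, Set.mem_singleton_iff, forall_eq_or_imp, forall_eq]
    exact ⟨fun h => ⟨h.1.symm, h.2.symm⟩, fun h => ⟨h.1.symm.eq, h.2.symm.eq⟩⟩
  have hki : Commute (k * dA i) (dA i) :=
    (show Commute k (dA i) from hk2).mul_left (Commute.refl _)
  obtain ⟨a, ha, hae⟩ := D.conj_of_outside (K := K) (fun a ha => (hK'.1 ha).1) (i := i) (e := e')
    (hK'.2 ⟨(show Commute (dA i) u4A from sq_vals.2.2.2.2.2.2.2.1 i).map f, (hki.map f).symm⟩)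
    (hK'.2 ⟨D.dd_u4 hdd', hc'⟩) hdd' hout'
  have hk' : IsConj (f k) (f (ζ * dA j)) := by
    refine (isConj_iff.2 ⟨h⁻¹ * a, ?_⟩)
    rw [map_mul, hζ, hz', show f k = f (k * dA i) * f (dA i) by
      rw [← map_mul, mul_assoc, sq_vals.2.2.2.2.1, mul_one],
      show h⁻¹ * a * (f (k * dA i) * f (dA i)) * (h⁻¹ * a)⁻¹ =
        h⁻¹ * ((a * f (k * dA i) * a⁻¹) * (a * f (dA i) * a⁻¹)) * h by group,
      (hK'.1 ha).2.eq, mul_inv_cancel_right, hae, he']
    group
  have hζj : ζ * dA j * (ζ * dA j) = 1 := by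
    rw [show ζ * dA j * (ζ * dA j) = ζ * (dA j * ζ) * dA j by group, ← hjc,
      show ζ * (ζ * dA j) * dA j = ζ * ζ * (dA j * dA j) by group, hζ2, sq_vals.2.2.2.2.1, one_mul]
  have := D.ne k (ζ * dA j) hk.2.1 hζj hk'
  omega

theorem cent_mul_four [Finite G] {k : A12} (hk : IsK k) (i : Fin 3) {g : G} (h4 : Commute g (f u4A))
    (hc : Commute g (f (k * dA i))) : g ∈ f.range := by
  have hdd := D.dd_conj (D.dd_four i) h4
  by_cases hr : g * f (dA i) * g⁻¹ ∈ f.range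
  · obtain ⟨j, hj⟩ := D.dd_mem hdd hr
    exact D.move_four h4 hj
  · exfalso
    refine D.no_mixed hk i hdd hr ?_
    have hki : Commute (dA i) (k * dA i) := (show Commute k (dA i) from (sc_mul_four hk i).2).symm.mul_right
      (Commute.refl _)
    exact (hc.mul_left (hki.map f)).mul_left hc.inv_left

/-- The conjugates of the four group's elements commute with the inner involutions. -/
theorem dd_comm_inner [Finite G] {k : A12} (hk : IsK k) {e : G} (hdd : DD f e) : Commute e (f k) := by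
  by_cases hr : e ∈ f.range
  · obtain ⟨j, rfl⟩ := D.dd_mem hdd hr
    exact ((show Commute k (dA j) from (sc_mul_four hk j).2).symm).map f
  have hk0 := (sc_mul_four hk 0).2
  have hz2 : k * dA 0 * (k * dA 0) = 1 := by
    rw [show k * dA 0 * (k * dA 0) = k * (dA 0 * k) * dA 0 by group, ← hk0,
      show k * (k * dA 0) * dA 0 = k * k * (dA 0 * dA 0) by group, hk.2.1, sq_vals.2.2.2.2.1, one_mul]
  have hw4 : Commute (f (k * dA 0)) (f u4A) :=
    (show Commute (k * dA 0) u4A from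
      (show Commute k u4A from hk.1).mul_left (sq_vals.2.2.2.2.2.2.2.1 0)).map f
  have hcl : ∀ a ∈ Subgroup.closure ({f (k * dA 0), e} : Set G), Commute a (f u4A) := by
    intro a ha
    induction ha using Subgroup.closure_induction with
    | mem x hx => rcases hx with rfl | rfl; exacts [hw4, D.dd_u4 hdd]
    | one => exact Commute.one_left _
    | mul x y _ _ hx hy => exact hx.mul_left hy
    | inv x _ hx => exact hx.inv_left
  rcases dihedral_full (show f (k * dA 0) * f (k * dA 0) = 1 by rw [← map_mul, hz2, map_one])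
      (D.dd_sq hdd) with
    ⟨a, ha, h⟩ | ⟨z, hz, hz2', hz1, hzw, hzv, a, ha, hcases⟩
  · exfalso
    have hdd' : DD f (f (k * dA 0)) := by
      have := D.dd_conj hdd (hcl a ha).inv_left
      rwa [← h, inv_inv, show a⁻¹ * (a * f (k * dA 0) * a⁻¹) * a = f (k * dA 0) by group] at this
    obtain ⟨j, hj⟩ := D.dd_range hdd'
    exact isK_mul_not_four hk 0 j hj
  obtain ⟨τ, rfl⟩ : z ∈ f.range := D.cent_mul_four hk 0 (hcl z hz) (show Commute z _ from hzw)
  rcases hcases with ⟨-, h⟩ | ⟨h, -⟩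
  · exfalso
    have hdd' : DD f (f τ * e) := h ▸ D.dd_conj hdd (hcl a ha)
    obtain ⟨h', hh', he'⟩ := hdd
    have hc : Commute (h'⁻¹ * (f τ * e) * h') (f (dA 0)) := by
      have hce : Commute (f τ * e) e := (show Commute (f τ) e from hzv).mul_left (Commute.refl e)
      have := hce.map (MulAut.conj h'⁻¹).toMonoidHom
      simp only [MulEquiv.coe_toMonoidHom, MulAut.conj_apply, inv_inv] at this
      rwa [show h'⁻¹ * e * h' = f (dA 0) by rw [← he']; group] at this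
    have hdd'' : DD f (h'⁻¹ * (f τ * e) * h') := by
      simpa only [inv_inv] using D.dd_conj hdd' hh'.inv_left
    obtain ⟨j, hj⟩ := D.dd_mem hdd'' (D.cent_four (D.dd_u4 hdd'') hc)
    have hτe : f τ = h' * f (dA j * dA 0) * h'⁻¹ := by
      rw [map_mul, ← hj, show h' * (h'⁻¹ * (f τ * e) * h' * f (dA 0)) * h'⁻¹ =
        f τ * (e * (h' * f (dA 0) * h'⁻¹)) by group, he', D.dd_sq ⟨h', hh', he'⟩, mul_one]
    by_cases hj0 : j = 0
    · exact hz1 (by rw [hτe, hj0, sq_vals.2.2.2.2.1, map_one, mul_one, mul_inv_cancel])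
    obtain ⟨m, hm⟩ := sq_vals.2.2.2.2.2.2.2.2.2.1 j 0 hj0
    rw [hm] at hτe
    obtain ⟨l, hl⟩ := D.dd_mem (e := f τ) (hτe ▸ D.dd_conj (D.dd_four m) hh') ⟨τ, rfl⟩
    exact hr (D.cent_four (D.dd_u4 ⟨h', hh', he'⟩) (show Commute e (f (dA l)) from hl ▸ hzv.symm))
  · have hdd' : DD f (f (τ * (k * dA 0))) := by
      rw [map_mul]
      exact h ▸ D.dd_conj hdd (hcl a ha)
    obtain ⟨j, hj⟩ := D.dd_range hdd'
    have hτ : τ = k * (dA 0 * dA j) := by
      have hkj := (sc_mul_four hk j).2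
      rw [show τ = dA j * (k * dA 0) by rw [← hj, mul_assoc, hz2, mul_one],
        ← mul_assoc, ← hkj, mul_assoc, sq_vals.2.2.2.2.2.2.2.2.1 j 0]
    by_cases hj0 : 0 = j
    · rw [← hj0, sq_vals.2.2.2.2.1, mul_one] at hτ
      exact hτ ▸ hzv.symm
    obtain ⟨m, hm⟩ := sq_vals.2.2.2.2.2.2.2.2.2.1 0 j hj0
    rw [hm] at hτ
    exact absurd (hτ ▸ hzv.symm) (fun hc => D.no_mixed hk m hdd hr hc)

theorem dd_mem_inner [Finite G] {e : G} (hdd : DD f e) : e ∈ inner f :=
  mem_inner.2 ⟨D.dd_u4 hdd, fun _ hk => D.dd_comm_inner hk hdd⟩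

theorem inner_fix {σ : A12} (hσ : f σ ∈ inner f) :
    σ * u4A = u4A * σ ∧ ∀ i, σ * kA i = kA i * σ := by
  obtain ⟨h4, hk⟩ := mem_inner.1 hσ
  exact ⟨D.inj (by rw [map_mul, map_mul]; exact h4.eq),
    fun i => D.inj (by rw [map_mul, map_mul]; exact (hk _ (isK_kA i)).eq)⟩

/-- Inside the inner centralizer only `u₄` and the four group commute with `f d`. -/
theorem inner_cent {g : G} (hg : g ∈ inner f) (hd : Commute g (f (dA 0))) :
    g ∈ ({1, f u4A} : Set G) ∨ ∃ i, g = f (dA i) ∨ g = f (u4A * dA i) := by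
  obtain ⟨σ, rfl⟩ := D.cent_four (mem_inner.1 hg).1 hd
  obtain ⟨h4, hk⟩ := D.inner_fix hg
  obtain ⟨τ, hτ, hfix⟩ := inner_split h4 hk
  have hσd : σ * dA 0 = dA 0 * σ := D.inj (by rw [map_mul, map_mul]; exact hd.eq)
  have hτd : τ * dA 0 = dA 0 * τ := by
    rcases hτ with rfl | rfl
    · exact hσd
    · have h := sq_vals.2.2.2.2.2.2.2.1 0
      rw [mul_assoc u4A, ← mul_assoc (dA 0) u4A, h, mul_assoc] at hσd
      exact mul_left_cancel hσd
  rcases rest_four hfix hτd with rfl | ⟨i, rfl⟩ <;> rcases hτ with rfl | rfl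
  · exact Or.inl (Or.inl (map_one f))
  · exact Or.inl (Or.inr (by rw [mul_one]; rfl))
  · exact Or.inr ⟨i, Or.inl rfl⟩
  · exact Or.inr ⟨i, Or.inr rfl⟩

end Hyp

end Cfsg.Agent.AltTwelve.Alt
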