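import Cfsg.Agent.Lib.AltTwelve.Alt.Sigma

/-!
# One or thirteen cosets invariant under the image and the inner centralizer
-/

set_option autoImplicit false
set_option maxRecDepth 100000
set_option linter.unusedSectionVars false
set_option linter.style.haveILetI false

namespace Cfsg.Agent.AltTwelve.Alt

universe u

variable {G : Type u} [Group G] {f : A12 →* G}

/-- A double transposition moving one point to another. -/
def mvP (a b : Fin 12) : P12 :=
  if a = b then 1
  else Equiv.swap a b *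
    (if a.val < 2 ∨ b.val < 2 then
      (if a.val / 2 = 1 ∨ b.val / 2 = 1 then Equiv.swap 4 5 else Equiv.swap 2 3)
    else Equiv.swap 0 1)

theorem mvP_facts : ∀ a b : Fin 12, Equiv.Perm.sign (mvP a b) = 1 ∧ mvP a b a = b ∧
    (a ≠ 11 → b ≠ 11 → mvP a b 11 = 11) := by
  decide +kernel

/-- A double transposition moving one point to another, in the alternating group. -/
def mvA (a b : Fin 12) : A12 := ⟨mvP a b, Equiv.Perm.mem_alternatingGroup.2 (mvP_facts a b).1⟩

theorem mvA_apply (a b : Fin 12) : (mvA a b : P12) a = b := (mvP_facts a b).2.1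

/-- The odd part of a second octad. -/
def rA : A12 :=
  ⟨Equiv.swap 2 3 * Equiv.swap 4 5, Equiv.Perm.mem_alternatingGroup.2 (by decide +kernel)⟩

theorem orbit_facts : sA * u4A = u4A * sA ∧ sA * sA = 1 ∧ cA * sA = sA * cA ^ 2 ∧
    mA * u4A * mA⁻¹ = sA * rA ∧ (∀ i, cA * dA i * cA⁻¹ ≠ dA i) ∧
    (∀ i, (dA i : P12) 11 ≠ 11) ∧ (dA 0 : P12) 11 = 10 := by
  decide +kernel

theorem isK_orbit : IsK rA ∧ IsK (mA * k8A * mA⁻¹) := by
  refine ⟨(show rA * u4A = u4A * rA ∧ rA * rA = 1 ∧ rA ≠ 1 ∧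
      ∀ i : Fin 12, 8 ≤ i.val → (rA : P12) i = i by decide +kernel), ?_⟩
  exact (show mA * k8A * mA⁻¹ * u4A = u4A * (mA * k8A * mA⁻¹) ∧
      mA * k8A * mA⁻¹ * (mA * k8A * mA⁻¹) = 1 ∧ mA * k8A * mA⁻¹ ≠ 1 ∧
      ∀ i : Fin 12, 8 ≤ i.val → ((mA * k8A * mA⁻¹ : A12) : P12) i = i by decide +kernel)

/-- The coset of the image. -/
abbrev base (f : A12 →* G) : G ⧸ f.range := ((1 : G) : G ⧸ f.range)

/-- A set of cosets invariant under the image and the inner centralizer. -/
structure Good (f : A12 →* G) (P : Set (G ⧸ f.range)) : Prop where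
  mem_base : base f ∈ P
  range : ∀ σ, ∀ y ∈ P, f σ • y ∈ P
  inner : ∀ h ∈ inner f, ∀ y ∈ P, h • y ∈ P
  card : P.ncard = 1 ∨ P.ncard = 13

theorem smul_base_eq {g : G} : g • base f = base f ↔ g ∈ f.range := by
  rw [MulAction.Quotient.smul_mk, smul_eq_mul, mul_one, eq_comm, QuotientGroup.eq, inv_one, one_mul]

theorem range_base (σ : A12) : f σ • base f = base f := smul_base_eq.2 ⟨σ, rfl⟩

namespace Hyp

variable (D : Hyp f) [Finite G]
include D

theorem fix12 {σ : A12} (hσ : σ * σ = 1) (h12 : sc σ = 12) {y : G ⧸ f.range} (hy : f σ • y = y) :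
    y = base f := by
  obtain ⟨g, rfl⟩ := QuotientGroup.mk_surjective y
  rw [MulAction.Quotient.smul_mk, smul_eq_mul, eq_comm, QuotientGroup.eq, ← mul_assoc] at hy
  have := D.move12 hσ h12 (g := g⁻¹) (by rwa [inv_inv])
  rw [eq_comm, QuotientGroup.eq, inv_one, one_mul]
  exact inv_inv g ▸ inv_mem this

theorem smul_fix {g : G} (hg : Commute g (f u4A)) {y : G ⧸ f.range} (hy : f u4A • y = y) :
    f u4A • (g • y) = g • y := by
  rw [smul_smul, ← hg.eq, ← smul_smul, hy]

/-- The invariant set exists. -/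
theorem exists_good : ∃ P, Good f P := by
  classical
  set o := base f with ho
  have hu4o : f u4A • o = o := range_base u4A
  set S := {y : G ⧸ f.range | f u4A • y = y} with hS
  rcases D.fix_card with h1 | h5
  · obtain ⟨a, ha⟩ := Set.ncard_eq_one.1 h1
    have hSo : ∀ y ∈ S, y = o := fun y hy => by
      rw [hS, ha] at hy
      have ho' : o ∈ ({a} : Set (G ⧸ f.range)) := ha ▸ hu4o
      rw [Set.mem_singleton_iff] at hy ho'
      rw [hy, ho']
    refine ⟨{o}, ⟨rfl, fun σ y hy => ?_, fun h hh y hy => ?_, Or.inl (Set.ncard_singleton o)⟩⟩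
    · rw [Set.mem_singleton_iff] at hy ⊢
      rw [hy]
      exact range_base σ
    · rw [Set.mem_singleton_iff] at hy ⊢
      rw [hy]
      exact hSo _ (D.smul_fix (mem_inner.1 hh).1 hu4o)
  have hc4 : Commute (f cA) (f u4A) := (show Commute cA u4A from four_conj.2.1).map f
  have hS' : (S \ {o}).ncard = 4 := by
    rw [Set.ncard_sdiff_singleton_of_mem (show o ∈ S from hu4o), hS, h5]
  have hcS : ∀ y : ↥(S \ {o}), f cA • (y : G ⧸ f.range) ∈ S \ {o} := fun y =>
    ⟨D.smul_fix hc4 y.2.1, fun h => y.2.2 (by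
      rw [Set.mem_singleton_iff] at h ⊢
      exact MulAction.injective (f cA) (h.trans (range_base cA).symm))⟩
  let σ : ↥(S \ {o}) → ↥(S \ {o}) := fun y => ⟨_, hcS y⟩
  have hσ : Function.Injective σ := fun y y' h =>
    Subtype.ext (MulAction.injective (f cA) (congrArg Subtype.val h))
  haveI : Fintype ↥(S \ {o}) := Fintype.ofFinite _
  let π : Equiv.Perm ↥(S \ {o}) := Equiv.ofBijective σ (Finite.injective_iff_bijective.1 hσ)
  haveI : Fact (Nat.Prime 3) := ⟨Nat.prime_three⟩
  have hπ : π ^ 3 ^ 1 = 1 := by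
    refine Equiv.ext fun y => Subtype.ext ?_
    change f cA • f cA • f cA • (y : G ⧸ f.range) = y
    rw [smul_smul, smul_smul, ← map_mul, ← map_mul, show cA * cA * cA = 1 by
      rw [← four_conj.2.2.1, pow_succ, pow_two], map_one, one_smul]
  obtain ⟨⟨x, hxS, hxo⟩, hcx⟩ := Equiv.Perm.exists_fixed_point_of_prime (p := 3) (n := 1)
    (by rw [Fintype.card_eq_nat_card, Nat.card_coe_set_eq, hS']; decide) hπ
  replace hcx : f cA • x = x := congrArg Subtype.val hcx
  rw [Set.mem_singleton_iff] at hxo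
  obtain ⟨h0, hh0, hh0x⟩ := D.fix_exists hxS
  have hdS : ∀ i, f (dA i) • x ∈ S := fun i => D.smul_fix (D.dd_u4 (D.dd_four i)) hxS
  have hdo : ∀ i, f (dA i) • x ≠ o := fun i h =>
    hxo (MulAction.injective (f (dA i)) (h.trans (range_base (dA i)).symm))
  have hdx : ∀ i, f (dA i) • x ≠ x := fun i h => by
    rw [← hh0x] at h
    exact hxo (hh0x.symm.trans (smul_base_eq.2 (D.fix_four hh0 h)))
  have hdd : ∀ i j, f (dA i) • x = f (dA j) • x → i = j := fun i j h => by
    by_contra hij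
    obtain ⟨m, hm⟩ := sq_vals.2.2.2.2.2.2.2.2.2.1 j i (Ne.symm hij)
    refine hdx m ?_
    rw [← hm, map_mul, mul_smul, h, smul_smul, D.sq_four, one_smul]
  have hall : ∀ y ∈ S, y = o ∨ y = x ∨ ∃ i, y = f (dA i) • x := by
    intro y hy
    by_contra! hne
    have hsub : ({y, x, f (dA 0) • x, f (dA 1) • x, f (dA 2) • x} : Finset (G ⧸ f.range)) ⊆
        (Set.toFinite (S \ {o})).toFinset := by
      intro z hz
      simp only [Finset.mem_insert, Finset.mem_singleton] at hz
      rw [Set.Finite.mem_toFinset]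
      rcases hz with rfl | rfl | rfl | rfl | rfl
      exacts [⟨hy, hne.1⟩, ⟨hxS, hxo⟩, ⟨hdS 0, hdo 0⟩, ⟨hdS 1, hdo 1⟩, ⟨hdS 2, hdo 2⟩]
    have h5' : ({y, x, f (dA 0) • x, f (dA 1) • x, f (dA 2) • x} : Finset (G ⧸ f.range)).card = 5 := by
      have n01 : f (dA 0) • x ≠ f (dA 1) • x := fun e => absurd (hdd 0 1 e) (by decide)
      have n02 : f (dA 0) • x ≠ f (dA 2) • x := fun e => absurd (hdd 0 2 e) (by decide)
      have n12 : f (dA 1) • x ≠ f (dA 2) • x := fun e => absurd (hdd 1 2 e) (by decide)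
      simp [hne.2.1, hne.2.2 0, hne.2.2 1, hne.2.2 2, (hdx 0).symm, (hdx 1).symm, (hdx 2).symm, n01, n02, n12]
    have := Finset.card_le_card hsub
    rw [h5', ← Set.ncard_eq_toFinset_card, hS'] at this
    omega
  have hkx : ∀ {k}, IsK k → f k • x = x := fun hk => by
    rw [← hh0x]
    exact D.fix_inner hh0 hk
  have hsx : f sA • x = x := by
    obtain ⟨hs4, hs2, hcs, -, hcd, -⟩ := orbit_facts
    have hfix : f cA • (f sA • x) = f sA • x := by
      rw [smul_smul, ← map_mul, hcs, map_mul, mul_smul, pow_two, map_mul, mul_smul, hcx, hcx]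
    rcases hall _ (D.smul_fix ((show Commute sA u4A from hs4).map f) hxS) with h | h | ⟨i, h⟩
    · exact absurd (MulAction.injective (f sA) (h.trans (range_base sA).symm)) hxo
    · exact h
    · obtain ⟨j, hj⟩ := four_norm i
      rw [h] at hfix
      have e : f (dA j) • x = f (dA i) • x := by
        conv_lhs => rw [← hj, map_mul, map_mul, map_inv, mul_smul, mul_smul, inv_smul_eq_iff.2 hcx.symm]
        exact hfix
      exact absurd (hj.trans (congrArg dA (hdd j i e))) (hcd i)
  have hk8 : f k8A • x = x := by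
    have hu : f (mA * u4A * mA⁻¹) • x = x := by
      rw [orbit_facts.2.2.2.1, map_mul, mul_smul, hkx isK_orbit.1, hsx]
    have hy : f u4A • ((f mA)⁻¹ • x) = (f mA)⁻¹ • x := by
      rw [map_mul, map_mul, map_inv, mul_smul, mul_smul] at hu
      exact eq_inv_smul_iff.2 hu
    obtain ⟨h, hh, hhy⟩ := D.fix_exists hy
    have hk6 := D.fix_inner hh isK_orbit.2
    rw [hhy] at hk6
    have hm : f mA * f mA = 1 := by
      rw [← map_mul, show mA * mA = 1 by decide +kernel, map_one]
    rw [map_mul, map_mul, map_inv, mul_smul, mul_smul, inv_eq_of_mul_eq_one_left hm] at hk6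
    rw [smul_smul (f mA) (f mA) x, hm, one_smul] at hk6
    exact MulAction.injective (f mA) hk6
  have hstab : ∀ σ : A12, (σ : P12) 11 = 11 → f σ • x = x := by
    set L : Subgroup A12 := (MulAction.stabilizer G x).comap f with hL
    have hL' : ∀ {σ}, σ ∈ L ↔ f σ • x = x := Iff.rfl
    have hgen : stabGen ≤ L.map (alternatingGroup (Fin 12)).subtype := by
      refine (Subgroup.closure_le _).2 ?_
      rintro _ ⟨i, rfl⟩
      have hk : ∀ j, kA j ∈ L := fun j => hL'.2 (hkx (isK_kA j))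
      fin_cases i
      exacts [⟨cA, hL'.2 hcx, rfl⟩, ⟨kA 0, hk 0, rfl⟩, ⟨kA 1, hk 1, rfl⟩, ⟨kA 2, hk 2, rfl⟩,
        ⟨k8A, hL'.2 hk8, rfl⟩, ⟨kA 3, hk 3, rfl⟩]
    intro σ hσ
    obtain ⟨τ, hτ, e⟩ := hgen (stab_eq (Equiv.Perm.mem_alternatingGroup.1 σ.2) hσ)
    exact hL'.1 ((Subtype.ext e : τ = σ) ▸ hτ)
  have hexact : ∀ σ : A12, f σ • x = x → (σ : P12) 11 = 11 := by
    intro σ hσ
    by_contra hne
    have hallfix : ∀ τ : A12, f τ • x = x := by
      intro τ
      by_cases hb : (τ : P12) 11 = 11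
      · exact hstab τ hb
      set j := mvA ((σ : P12) 11) ((τ : P12) 11)
      have hj : (j : P12) 11 = 11 := (mvP_facts _ _).2.2 hne hb
      have h11 : ((j * σ)⁻¹ * τ : A12).val 11 = 11 := by
        rw [Subgroup.coe_mul, Equiv.Perm.mul_apply, Subgroup.coe_inv, Equiv.Perm.inv_eq_iff_eq,
          Subgroup.coe_mul, Equiv.Perm.mul_apply]
        exact (mvA_apply _ _).symm
      rw [show τ = j * σ * ((j * σ)⁻¹ * τ) by group, map_mul, mul_smul, hstab _ h11, map_mul, mul_smul, hσ,
        hstab _ hj]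
    exact hxo (D.fix12 sq_vals.1 sc_vals.1 (hallfix alA))
  set p : Fin 12 → G ⧸ f.range := fun b => f (mvA 11 b) • x with hp
  have hp11 : p 11 = x := hstab _ (mvA_apply 11 11)
  have heq : ∀ (τ : A12) (b : Fin 12), f τ • p b = p ((τ : P12) b) := by
    intro τ b
    have h11 : ((mvA 11 ((τ : P12) b))⁻¹ * (τ * mvA 11 b) : A12).val 11 = 11 := by
      rw [Subgroup.coe_mul, Equiv.Perm.mul_apply, Subgroup.coe_inv, Equiv.Perm.inv_eq_iff_eq,
        Subgroup.coe_mul, Equiv.Perm.mul_apply, mvA_apply, mvA_apply]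
    have := hstab _ h11
    rw [map_mul, map_inv, mul_smul, inv_smul_eq_iff, map_mul, mul_smul] at this
    exact this
  have hpinj : Function.Injective p := by
    intro b b' h
    have : f ((mvA 11 b')⁻¹ * mvA 11 b) • x = x := by
      rw [map_mul, mul_smul, map_inv, inv_smul_eq_iff]
      exact h
    have := hexact _ this
    rwa [Subgroup.coe_mul, Equiv.Perm.mul_apply, Subgroup.coe_inv, Equiv.Perm.inv_eq_iff_eq, mvA_apply,
      mvA_apply] at this
  have hpo : ∀ b, p b ≠ o := fun b h => hxo (MulAction.injective (f (mvA 11 b)) (h.trans (range_base _).symm))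
  have hpd : ∀ i, f (dA i) • x = p ((dA i : P12) 11) := fun i => by rw [← hp11, heq]
  have hSP : ∀ y ∈ S, y ∈ insert o (Set.range p) := by
    intro y hy
    rcases hall y hy with h | h | ⟨i, h⟩
    exacts [Or.inl h, Or.inr ⟨11, hp11.trans h.symm⟩, Or.inr ⟨_, ((h.trans (hpd i))).symm⟩]
  have hrange : ∀ σ, ∀ y ∈ insert o (Set.range p), f σ • y ∈ insert o (Set.range p) := by
    intro σ y hy
    rcases hy with rfl | ⟨b, rfl⟩
    exacts [Or.inl (range_base σ), Or.inr ⟨_, (heq σ b).symm⟩]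
  refine ⟨insert o (Set.range p), ⟨Set.mem_insert _ _, hrange, ?_, Or.inr ?_⟩⟩
  · have hx0 : h0⁻¹ • o ∈ S := D.smul_fix (mem_inner.1 hh0).1.inv_left hu4o
    obtain ⟨k, hk, hko, hkx'⟩ : ∃ k ∈ Alt.inner f, k • o = x ∧ k • x = o := by
      rcases hall _ hx0 with h | h | ⟨i, h⟩
      · exfalso
        rw [inv_smul_eq_iff] at h
        exact hxo (hh0x.symm.trans h.symm)
      · exact ⟨h0, hh0, hh0x, by rw [← h, smul_inv_smul]⟩
      · refine ⟨h0 * f (dA i), mul_mem hh0 (D.mem_inner_four i), ?_, ?_⟩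
        · rw [mul_smul, range_base]
          exact hh0x
        · rw [mul_smul, ← h, smul_inv_smul]
    have hkP : ∀ y ∈ insert o (Set.range p), k • y ∈ insert o (Set.range p) := by
      intro y hy
      rcases hy with rfl | ⟨b, rfl⟩
      · exact Or.inr ⟨11, hp11.trans hko.symm⟩
      by_cases hb : b = 11
      · rw [hb, hp11, hkx']
        exact Set.mem_insert _ _
      set σ := mvA 10 b
      have h11 : (σ : P12) 11 = 11 := (mvP_facts 10 b).2.2 (by decide) hb
      obtain ⟨σ', hσ'⟩ : k * f σ * k⁻¹ ∈ f.range := by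
        refine smul_base_eq.1 ?_
        rw [mul_smul, mul_smul, inv_smul_eq_iff.2 hkx'.symm, hstab σ h11, hkx']
      have hb10 : f σ • p 10 = p b := by rw [heq, mvA_apply]
      have hS10 : k • p 10 ∈ S := D.smul_fix (mem_inner.1 hk).1 (by
        rw [← orbit_facts.2.2.2.2.2.2, ← hpd]
        exact hdS 0)
      rw [← hb10, smul_smul, show k * f σ = f σ' * k by rw [hσ']; group, mul_smul]
      exact hrange σ' _ (hSP _ hS10)
    have step : ∀ h : G, h • o = o → ∀ y ∈ insert o (Set.range p), h • y ∈ insert o (Set.range p) := by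
      intro h hh y hy
      obtain ⟨σ, rfl⟩ := smul_base_eq.1 hh
      exact hrange σ y hy
    intro h hh y hy
    rcases hall _ (D.smul_fix (mem_inner.1 hh).1 hu4o) with e | e | ⟨i, e⟩
    · exact step h e y hy
    · have := hkP _ (step (k⁻¹ * h) (by rw [mul_smul, e, ← hko, inv_smul_smul]) y hy)
      rwa [smul_smul, mul_inv_cancel_left] at this
    · have := hrange (dA i) _ (hkP _ (step (k⁻¹ * ((f (dA i))⁻¹ * h)) (by
        rw [mul_smul, mul_smul, e, inv_smul_smul, ← hko, inv_smul_smul]) y hy))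
      rwa [smul_smul, smul_smul, mul_assoc, mul_inv_cancel_left, mul_inv_cancel_left] at this
  · rw [Set.ncard_insert_of_notMem (show o ∉ Set.range p from fun ⟨b, hb⟩ => hpo b hb)
      (Set.finite_range p), Set.ncard_range_of_injective hpinj,
      Nat.card_fin]

end Hyp

end Cfsg.Agent.AltTwelve.Alt
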