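import Cfsg.Agent.Lib.AltTwelve.Alt.Locals
import Cfsg.Agent.Lib.AltTwelve.Alt.Five

/-!
# One or five cosets are fixed by an involution moving eight points
-/

set_option autoImplicit false
set_option maxRecDepth 100000
set_option linter.unusedSectionVars false
set_option linter.style.haveILetI false

namespace Cfsg.Agent.AltTwelve.Alt

universe u

variable {G : Type u} [Group G] {f : A12 →* G}

theorem four_norm : ∀ i, ∃ j, cA * dA i * cA⁻¹ = dA j := by decide +kernel

theorem four_prod : ∀ i j, i ≠ j → dA i * dA j ≠ u4A := by decide +kernel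

/-- An element of the four group times a power of the cycle, perhaps times `u₄`. -/
def smallEl (p : Bool × Option (Fin 3) × Fin 3) : A12 :=
  (bif p.1 then u4A else 1) * (p.2.1.elim 1 dA * cA ^ p.2.2.val)

theorem smallEl_inj : ∀ p q, smallEl p = smallEl q → p = q := by decide +kernel

theorem c_commutes_inner {k : A12} (hk : IsK k) : cA * k = k * cA := by
  refine Subtype.ext (Equiv.Perm.Disjoint.commute fun j => ?_).eq
  by_cases h : j.val < 8
  · exact Or.inl ((show ∀ j : Fin 12, j.val < 8 → (cA : P12) j = j by decide +kernel) j h)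
  · exact Or.inr (hk.2.2.2 j (by omega))

theorem u4_commutes_inner {k : A12} (hk : IsK k) : u4A * k = k * u4A := hk.1.symm

namespace Hyp

variable (D : Hyp f) [Finite G]
include D

theorem mem_inner_u4 : f u4A ∈ inner f :=
  mem_inner.2 ⟨Commute.refl _, fun _ hk => (show Commute u4A _ from u4_commutes_inner hk).map f⟩

theorem mem_inner_c : f cA ∈ inner f :=
  mem_inner.2 ⟨(show Commute cA u4A from four_conj.2.1).map f,
    fun _ hk => (show Commute cA _ from c_commutes_inner hk).map f⟩

theorem mem_inner_four (i : Fin 3) : f (dA i) ∈ inner f := D.dd_mem_inner (D.dd_four i)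

theorem smallEl_mem (p : Bool × Option (Fin 3) × Fin 3) : f (smallEl p) ∈ inner f := by
  obtain ⟨b, o, n⟩ := p
  rw [smallEl, map_mul, map_mul, map_pow]
  refine mul_mem ?_ (mul_mem ?_ (pow_mem D.mem_inner_c _))
  · cases b
    · rw [cond_false, map_one]; exact one_mem _
    · exact D.mem_inner_u4
  · cases o with
    | none => change f 1 ∈ inner f; rw [map_one]; exact one_mem _
    | some i => exact D.mem_inner_four i

/-- The two possibilities: everything inside, or index five. -/
theorem inner_index : ((f.range).subgroupOf (inner f)).index = 1 ∨ ((f.range).subgroupOf (inner f)).index = 5 := by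
  set H := inner f with hH
  set uH : H := ⟨f u4A, D.mem_inner_u4⟩ with huH
  set cH : H := ⟨f cA, D.mem_inner_c⟩ with hcH
  set dH : Fin 3 → H := fun i => ⟨f (dA i), D.mem_inner_four i⟩ with hdH
  have hu2 : uH * uH = 1 := Subtype.ext (by
    change f u4A * f u4A = 1
    rw [← map_mul, sq_vals.2.1, map_one])
  have huc : ∀ g : H, Commute g uH := fun g => Subtype.ext (mem_inner.1 g.2).1.eq
  haveI hZn : (Subgroup.zpowers uH).Normal := ⟨fun z hz g => by
    obtain ⟨k, rfl⟩ := Subgroup.mem_zpowers_iff.1 hz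
    rw [((huc g).zpow_right k).eq, mul_inv_cancel_right]
    exact Subgroup.mem_zpowers_iff.2 ⟨k, rfl⟩⟩
  have hZ : ∀ z ∈ Subgroup.zpowers uH, z = 1 ∨ z = uH := by
    intro z hz
    obtain ⟨k, rfl⟩ := Subgroup.mem_zpowers_iff.1 hz
    have h2 : uH ^ (2 : ℤ) = 1 := by rw [zpow_two]; exact hu2
    rcases Int.even_or_odd k with ⟨m, rfl⟩ | ⟨m, rfl⟩
    · exact Or.inl (by rw [show m + m = 2 * m by ring, zpow_mul, h2, one_zpow])
    · exact Or.inr (by rw [zpow_add, zpow_mul, h2, one_zpow, one_mul, zpow_one])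
  let q : H →* H ⧸ Subgroup.zpowers uH := QuotientGroup.mk' _
  have hq : ∀ {σ τ : A12} {x y : H}, (x : G) = f σ → (y : G) = f τ → q x = q y → τ = σ ∨ τ = σ * u4A := by
    intro σ τ x y hx hy h
    rcases hZ _ (QuotientGroup.eq.1 h) with e | e
    · exact Or.inl (D.inj (by rw [← hx, ← hy, (inv_mul_eq_one.1 e)]))
    · refine Or.inr (D.inj ?_)
      rw [map_mul, ← hx, ← hy, show y = x * uH by rw [← e, mul_inv_cancel_left]]
      rfl
  have F : FourCent (fun i => q (dH i)) (q cH) := by
    refine ⟨fun i => ?_, fun i h => ?_, fun i j h => ?_, fun i j hij => ?_, fun x hx => ?_, fun i => ?_, fun i => ?_⟩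
    · rw [← map_mul, show dH i * dH i = 1 from Subtype.ext (D.sq_four i), map_one]
    · rcases hq (x := dH i) (y := 1) rfl (map_one f).symm (h.trans (map_one q).symm) with e | e
      · exact four_conj.2.2.2.2.1 i e.symm
      · exact four_conj.2.2.2.2.2.2.2.1 i
          (by rw [← mul_one (dA i), ← sq_vals.2.1, ← mul_assoc, ← e, one_mul])
    · rcases hq (x := dH i) (y := dH j) rfl rfl h with e | e
      · exact sq_vals.2.2.2.2.2.2.2.2.2.2 i j e.symm
      · by_contra hij
        refine four_prod i j hij ?_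
        rw [e, ← mul_assoc, sq_vals.2.2.2.2.1, one_mul]
    · obtain ⟨k, hk⟩ := sq_vals.2.2.2.2.2.2.2.2.2.1 i j hij
      exact ⟨k, by rw [← map_mul]; exact congrArg q (Subtype.ext (by
        change f (dA i) * f (dA j) = f (dA k)
        rw [← map_mul, hk]))⟩
    · obtain ⟨g, rfl⟩ := QuotientGroup.mk'_surjective _ x
      have hg4 := (mem_inner.1 g.2).1
      have hcomm : Commute (g : G) (f (dA 0)) := by
        have hd := D.dd_conj (D.dd_four 0) hg4
        have h : q (dH 0) = q (g * dH 0 * g⁻¹) := by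
          rw [map_mul, map_mul, map_inv]
          exact (eq_mul_inv_iff_mul_eq.2 hx.eq.symm)
        rcases hZ _ (QuotientGroup.eq.1 h) with e | e
        · have e' := congrArg Subtype.val (inv_mul_eq_one.1 e)
          change f (dA 0) = (g : G) * f (dA 0) * (g : G)⁻¹ at e'
          exact mul_inv_eq_iff_eq_mul.1 e'.symm
        · exfalso
          have e' : g * dH 0 * g⁻¹ = dH 0 * uH := by rw [← e, mul_inv_cancel_left]
          have e'' := congrArg Subtype.val e'
          change (g : G) * f (dA 0) * (g : G)⁻¹ = f (dA 0) * f u4A at e''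
          rw [e'', ← map_mul, sq_vals.2.2.2.2.2.2.2.1 0] at hd
          obtain ⟨j, hj⟩ := D.dd_range hd
          exact four_conj.2.2.2.2.2.1 0 j hj
      have hqu : q uH = 1 := (QuotientGroup.eq_one_iff uH).2 (Subgroup.mem_zpowers uH)
      rcases D.inner_cent g.2 hcomm with (h | h) | ⟨i, h | h⟩
      · exact Or.inl (by rw [show g = 1 from Subtype.ext h]; exact map_one q)
      · exact Or.inl (by rw [show g = uH from Subtype.ext h]; exact hqu)
      · exact Or.inr ⟨i, by rw [show g = dH i from Subtype.ext h]⟩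
      · refine Or.inr ⟨i, ?_⟩
        rw [show g = uH * dH i from Subtype.ext (by rw [h, map_mul]; rfl)]
        change q (uH * dH i) = _
        rw [map_mul, hqu, one_mul]
    · obtain ⟨n, hn⟩ := four_conj.1 i
      refine ⟨n.val, ?_⟩
      rw [← map_pow, ← map_inv, ← map_mul, ← map_mul]
      refine congrArg q (Subtype.ext ?_)
      change (f cA) ^ n.val * f (dA 0) * ((f cA) ^ n.val)⁻¹ = f (dA i)
      rw [← map_pow, ← map_inv, ← map_mul, ← map_mul, hn]
    · obtain ⟨j, hj⟩ := four_norm i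
      refine ⟨j, ?_⟩
      rw [← map_inv, ← map_mul, ← map_mul]
      refine congrArg q (Subtype.ext ?_)
      change f cA * f (dA i) * (f cA)⁻¹ = f (dA j)
      rw [← map_inv, ← map_mul, ← map_mul, hj]
  have hc3 : q cH ^ 3 = 1 := by
    rw [← map_pow, show cH ^ 3 = 1 from Subtype.ext (by
      change (f cA) ^ 3 = 1
      rw [← map_pow, four_conj.2.2.1, map_one]), map_one]
  set Y := (f.range).subgroupOf H with hY
  have huY : uH ∈ Y := Subgroup.mem_subgroupOf.2 ⟨u4A, rfl⟩
  rcases F.small_or_sixty hc3 with hsmall | h60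
  · refine Or.inl (Subgroup.index_eq_one.2 (eq_top_iff.2 fun g _ => ?_))
    obtain ⟨n, v, hv, e⟩ := hsmall (q g)
    obtain ⟨v', hv', hv'e⟩ : ∃ v' ∈ Y, q v' = v := by
      rcases hv with rfl | ⟨i, rfl⟩
      exacts [⟨1, one_mem _, map_one q⟩, ⟨dH i, Subgroup.mem_subgroupOf.2 ⟨dA i, rfl⟩, rfl⟩]
    have hmem : cH ^ n * v' ∈ Y := mul_mem (pow_mem (show cH ∈ Y from Subgroup.mem_subgroupOf.2 ⟨cA, rfl⟩) n) hv'
    rcases hZ _ (QuotientGroup.eq.1 (show q (cH ^ n * v') = q g by rw [map_mul, map_pow, hv'e, e])) with h | h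
    · exact inv_mul_eq_one.1 h ▸ hmem
    · have := mul_mem hmem (h.symm ▸ huY : (cH ^ n * v')⁻¹ * g ∈ Y)
      rwa [mul_inv_cancel_left] at this
  right
  have hu1 : uH ≠ 1 := fun h => four_conj.2.2.2.2.2.2.1 (D.inj (by
    rw [map_one]; exact congrArg Subtype.val h))
  have hcardH : Nat.card H = 120 := by
    rw [Subgroup.card_eq_card_quotient_mul_card_subgroup (Subgroup.zpowers uH), h60, Nat.card_zpowers,
      orderOf_eq_prime (by rw [pow_two]; exact hu2) hu1]
  have hcardY : Nat.card Y = 24 := by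
    classical
    refine le_antisymm ?_ ?_
    · let key : Y → {p : Fin 2 × Fin 4 × Fin 4 // p.2.1 ≠ p.2.2} := fun y =>
        let σ := (Subgroup.mem_subgroupOf.1 y.2).choose
        ⟨(Fin.ofNat 2 ((σ : P12) 0).val, Fin.ofNat 4 ((σ : P12) 8).val, Fin.ofNat 4 ((σ : P12) 9).val), by
          have hσ : f σ = ((y : H) : G) := (Subgroup.mem_subgroupOf.1 y.2).choose_spec
          obtain ⟨h4, hk⟩ := D.inner_fix (σ := σ) (hσ ▸ (y : H).2)
          obtain ⟨-, h8, h9⟩ := inner_ranges h4 hk
          intro e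
          have e' := congrArg Fin.val e
          simp only [Fin.val_ofNat] at e'
          have : ((σ : P12) 8) = (σ : P12) 9 := Fin.ext (by
            have := ((σ : P12) 8).isLt
            have := ((σ : P12) 9).isLt
            omega)
          exact absurd ((σ : P12).injective this) (by decide)⟩
      have hinj : Function.Injective key := by
        intro y y' h
        have hs : f (Subgroup.mem_subgroupOf.1 y.2).choose = ((y : H) : G) :=
          (Subgroup.mem_subgroupOf.1 y.2).choose_spec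
        have hs' : f (Subgroup.mem_subgroupOf.1 y'.2).choose = ((y' : H) : G) :=
          (Subgroup.mem_subgroupOf.1 y'.2).choose_spec
        obtain ⟨a4, ak⟩ := D.inner_fix (hs ▸ (y : H).2)
        obtain ⟨b4, bk⟩ := D.inner_fix (hs' ▸ (y' : H).2)
        obtain ⟨a0, a8, a9⟩ := inner_ranges a4 ak
        obtain ⟨b0, b8, b9⟩ := inner_ranges b4 bk
        have h' := congrArg Subtype.val h
        simp only [key, Prod.mk.injEq, Fin.ext_iff, Fin.val_ofNat] at h'
        obtain ⟨e0, e8, e9⟩ := h'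
        refine Subtype.ext (Subtype.ext ?_)
        rw [← hs, ← hs']
        refine congrArg f (inner_det a4 ak b4 bk (Fin.ext ?_) (Fin.ext ?_) (Fin.ext ?_)) <;> omega
      exact (Nat.card_le_card_of_injective key hinj).trans_eq (by
        rw [Nat.card_eq_fintype_card]; rfl)
    · let e : Bool × Option (Fin 3) × Fin 3 → Y := fun p =>
        ⟨⟨f (smallEl p), D.smallEl_mem p⟩, Subgroup.mem_subgroupOf.2 ⟨_, rfl⟩⟩
      have := Nat.card_le_card_of_injective e fun p r h => smallEl_inj p r (D.inj (by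
        exact congrArg (fun y : Y => ((y : H) : G)) h))
      simpa [Nat.card_eq_fintype_card] using this
  have := Y.card_mul_index
  rw [hcardY, hcardH] at this
  omega

/-- Whoever commutes with `u₄` differs from an inner element by one of the image. -/
theorem exists_inner {g : G} (hg : Commute g (f u4A)) : ∃ y ∈ inner f, y⁻¹ * g ∈ f.range := by
  by_cases hr : g * f (dA 0) * g⁻¹ ∈ f.range
  · obtain ⟨j, hj⟩ := D.dd_mem (D.dd_conj (D.dd_four 0) hg) hr
    exact ⟨1, one_mem _, by rw [inv_one, one_mul]; exact D.move_four hg hj⟩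
  · obtain ⟨y, hy, hye⟩ := D.conj_of_outside (K := inner f) (fun a ha => (mem_inner.1 ha).1)
      (D.mem_inner_four 0) (D.dd_mem_inner (D.dd_conj (D.dd_four 0) hg)) (D.dd_conj (D.dd_four 0) hg) hr
    refine ⟨y, hy, D.cent_four ((mem_inner.1 hy).1.inv_left.mul_left hg) (i := 0) ?_⟩
    rw [Commute, SemiconjBy, ← mul_inv_eq_iff_eq_mul, show y⁻¹ * g * f (dA 0) * (y⁻¹ * g)⁻¹ =
      y⁻¹ * (g * f (dA 0) * g⁻¹) * y by group, ← hye]
    group

/-- The fixed cosets of `u₄` are an orbit of the inner centralizer. -/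
theorem fix_exists {y : G ⧸ f.range} (hy : f u4A • y = y) :
    ∃ h ∈ inner f, h • ((1 : G) : G ⧸ f.range) = y := by
  obtain ⟨g, rfl⟩ := QuotientGroup.mk_surjective y
  rw [MulAction.Quotient.smul_mk, smul_eq_mul, eq_comm, QuotientGroup.eq] at hy
  obtain ⟨σ, hσ⟩ : g⁻¹ * f u4A * g ∈ f.range := by rwa [mul_assoc]
  have hσ2 : σ * σ = 1 := D.inj (by
    rw [map_mul, map_one, hσ, show g⁻¹ * f u4A * g * (g⁻¹ * f u4A * g) = g⁻¹ * (f u4A * f u4A) * g by group,
      ← map_mul, sq_vals.2.1, map_one, mul_one, inv_mul_cancel])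
  obtain ⟨π, hπ⟩ := exists_conj sq_vals.2.1 hσ2
    (D.ne u4A σ sq_vals.2.1 hσ2 (isConj_iff.2 ⟨g⁻¹, by rw [hσ, inv_inv]⟩))
  have hg : Commute (g * f π) (f u4A) := by
    rw [Commute, SemiconjBy, ← mul_inv_eq_iff_eq_mul, show g * f π * f u4A * (g * f π)⁻¹ =
      g * (f π * f u4A * (f π)⁻¹) * g⁻¹ by group, ← map_inv, ← map_mul, ← map_mul, hπ, hσ]
    group
  obtain ⟨h, hh, hr⟩ := D.exists_inner hg
  refine ⟨h, hh, ?_⟩
  rw [MulAction.Quotient.smul_mk, smul_eq_mul, mul_one, QuotientGroup.eq]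
  have := mul_mem hr (inv_mem (⟨π, rfl⟩ : f π ∈ f.range))
  rwa [show h⁻¹ * (g * f π) * (f π)⁻¹ = h⁻¹ * g by group] at this

theorem fix_inner {h : G} (hh : h ∈ inner f) {k : A12} (hk : IsK k) :
    f k • (h • ((1 : G) : G ⧸ f.range)) = h • ((1 : G) : G ⧸ f.range) := by
  rw [smul_smul, ← ((mem_inner.1 hh).2 k hk).eq, ← smul_smul]
  congr 1
  rw [MulAction.Quotient.smul_mk, smul_eq_mul, mul_one, eq_comm, QuotientGroup.eq, inv_one, one_mul]
  exact ⟨k, rfl⟩

theorem fix_four {h : G} (hh : h ∈ inner f) {i : Fin 3}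
    (hd : f (dA i) • (h • ((1 : G) : G ⧸ f.range)) = h • ((1 : G) : G ⧸ f.range)) : h ∈ f.range := by
  rw [MulAction.Quotient.smul_mk, smul_eq_mul, mul_one, MulAction.Quotient.smul_mk, smul_eq_mul, eq_comm,
    QuotientGroup.eq, ← mul_assoc] at hd
  have h4 := (mem_inner.1 hh).1
  have hdd : DD f (h⁻¹ * f (dA i) * h) := by
    simpa only [inv_inv] using D.dd_conj (D.dd_four i) h4.inv_left
  obtain ⟨j, hj⟩ := D.dd_mem hdd hd
  have := D.move_four h4.inv_left (i := i) (j := j) (by rw [inv_inv]; exact hj)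
  exact inv_inv h ▸ inv_mem this

/-- One or five cosets are fixed. -/
theorem fix_card : Set.ncard {y : G ⧸ f.range | f u4A • y = y} = 1 ∨
    Set.ncard {y : G ⧸ f.range | f u4A • y = y} = 5 := by
  have horb : {y : G ⧸ f.range | f u4A • y = y} = MulAction.orbit (inner f) ((1 : G) : G ⧸ f.range) := by
    ext y
    refine ⟨fun hy => ?_, ?_⟩
    · obtain ⟨h, hh, e⟩ := D.fix_exists hy
      exact ⟨⟨h, hh⟩, e⟩
    · rintro ⟨⟨h, hh⟩, rfl⟩
      change f u4A • (h • ((1 : G) : G ⧸ f.range)) = h • ((1 : G) : G ⧸ f.range)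
      rw [smul_smul, ← (mem_inner.1 hh).1.eq, ← smul_smul]
      congr 1
      rw [MulAction.Quotient.smul_mk, smul_eq_mul, mul_one, eq_comm, QuotientGroup.eq, inv_one, one_mul]
      exact ⟨u4A, rfl⟩
  have hst : MulAction.stabilizer (inner f) ((1 : G) : G ⧸ f.range) = (f.range).subgroupOf (inner f) := by
    ext h
    rw [MulAction.mem_stabilizer_iff, Subgroup.mem_subgroupOf]
    change (h : G) • ((1 : G) : G ⧸ f.range) = _ ↔ _
    rw [MulAction.Quotient.smul_mk, smul_eq_mul, mul_one, eq_comm, QuotientGroup.eq, inv_one, one_mul]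
  rw [horb, ← MulAction.index_stabilizer, hst]
  exact D.inner_index

end Hyp

end Cfsg.Agent.AltTwelve.Alt
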